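import Mathlib
import Groth.Prelude.Def_W4c2quivmodsheafKron

/-!
# Small facts about Kronecker modules
-/

set_option autoImplicit false

universe u v w

open Module Submodule

namespace Groth.Agent.SmallAlg.Kron

variable {K : Type u} [Field K] {V : Type v} {W : Type w} [AddCommGroup V] [Module K V] [FiniteDimensional K V]
  [AddCommGroup W] [Module K W] [FiniteDimensional K W] {n : ℕ}

theorem not_isStable_two [IsAlgClosed K] (f : Fin 2 → (V →ₗ[K] W)) (k : ℕ) (hk : 2 ≤ k)
    (hV : finrank K V = k) (hW : finrank K W = k) : ¬ KronMod.IsStable f := by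
  intro hs
  have htop : ∀ v : V, v ≠ 0 → (K ∙ v) ≠ ⊤ := fun v hv h => by
    have h1 := finrank_span_singleton (K := K) hv
    rw [h, finrank_top] at h1
    omega
  by_cases hinj : Function.Injective (f 0)
  · let e := (f 0).linearEquivOfInjective hinj (hV.trans hW.symm)
    have : Nontrivial V := nontrivial_of_finrank_pos (R := K) (by omega)
    obtain ⟨μ, hμ⟩ := Module.End.exists_eigenvalue (e.symm.toLinearMap ∘ₗ f 1)
    obtain ⟨v, hv⟩ := hμ.exists_hasEigenvector
    have h1 : f 1 v = μ • f 0 v := by
      have := congrArg e hv.apply_eq_smul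
      simpa [e] using this
    have hfv : f 0 v ≠ 0 := fun h => hv.2 (hinj (h.trans (map_zero _).symm))
    have := hs.2 (K ∙ v) (K ∙ f 0 v) (fun j => by
        rw [Submodule.map_span, Set.image_singleton, Submodule.span_le, Set.singleton_subset_iff]
        fin_cases j
        · exact mem_span_singleton_self _
        · exact mem_span_singleton.2 ⟨μ, h1.symm⟩)
      (fun h => hv.2 (span_singleton_eq_bot.1 h.1)) (fun h => htop v hv.2 h.1)
    rw [hV, hW, finrank_span_singleton hv.2, finrank_span_singleton hfv] at this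
    exact lt_irrefl _ this
  · obtain ⟨v, hv0, hv⟩ : ∃ v, f 0 v = 0 ∧ v ≠ 0 := by
      rw [injective_iff_map_eq_zero] at hinj
      push Not at hinj
      exact hinj
    have := hs.2 (K ∙ v) (K ∙ f 1 v) (fun j => by
        rw [Submodule.map_span, Set.image_singleton, Submodule.span_le, Set.singleton_subset_iff]
        fin_cases j
        · exact hv0 ▸ Submodule.zero_mem _
        · exact mem_span_singleton_self _)
      (fun h => hv (span_singleton_eq_bot.1 h.1)) (fun h => htop v hv h.1)
    have h2 : finrank K (K ∙ f 1 v) ≤ 1 := by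
      by_cases h : f 1 v = 0
      · rw [h, Submodule.span_singleton_eq_bot.2 rfl, finrank_bot]; omega
      · rw [finrank_span_singleton h]
    rw [hV, hW, finrank_span_singleton hv] at this
    nlinarith

theorem exists_bijective_comb (f : Fin n → (V →ₗ[K] W)) (hV : finrank K V = 2) (hW : finrank K W = 2)
    (hf : KronMod.IsSemistable f) :
    ∃ z : Fin n → K, Function.Bijective ((∑ j, z j • f j : V →ₗ[K] W) : V → W) := by
  by_contra hne
  push Not at hne
  let L := Submodule.span K (Set.range f)
  have hdep : ∀ g ∈ L, ∀ x y, g x ≠ 0 → g y ∈ K ∙ g x := by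
    intro g hg x y hx
    by_contra hy
    obtain ⟨z, rfl⟩ := (Submodule.mem_span_range_iff_exists_fun K).1 hg
    refine hne z ?_
    have hsurj : Function.Surjective (∑ j, z j • f j : V →ₗ[K] W) := by
      rw [← LinearMap.range_eq_top]
      refine Submodule.eq_top_of_finrank_eq ?_
      apply le_antisymm (Submodule.finrank_le _)
      rw [hW]
      have hlt : (K ∙ (∑ j, z j • f j) x) < LinearMap.range (∑ j, z j • f j : V →ₗ[K] W) :=
        lt_of_le_of_ne ((span_singleton_le_iff_mem _ _).2 (LinearMap.mem_range_self _ x))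
          (fun h => hy (h ▸ LinearMap.mem_range_self _ y))
      have h1 := Submodule.finrank_lt_finrank_of_lt hlt
      rw [finrank_span_singleton hx] at h1
      omega
    exact ⟨(LinearMap.injective_iff_surjective_of_finrank_eq_finrank (hV.trans hW.symm)).2 hsurj, hsurj⟩
  have hker : ∀ v : V, v ≠ 0 → ∃ g ∈ L, g v ≠ 0 := by
    intro v hv
    by_contra h
    push Not at h
    have := hf.2 (K ∙ v) ⊥ (fun j => by
        rw [Submodule.map_span, Set.image_singleton, Submodule.span_le, Set.singleton_subset_iff]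
        exact h _ (subset_span ⟨j, rfl⟩))
      (fun h => hv (span_singleton_eq_bot.1 h.1)) (fun hh => by
        have h3 : finrank K (⊥ : Submodule K W) = 2 := by rw [hh.2, finrank_top, hW]
        simp at h3)
    rw [finrank_span_singleton hv, hW, finrank_bot] at this
    omega
  have himg : ∀ U : Submodule K W, finrank K U ≤ 1 → ∃ g ∈ L, ∃ x, g x ∉ U := by
    intro U hU
    by_contra h
    push Not at h
    have := hf.2 ⊤ U (fun j => by
        rintro _ ⟨x, -, rfl⟩
        exact h _ (subset_span ⟨j, rfl⟩) x)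
      (fun hh => by
        have h3 := finrank_top K V
        rw [hh.1, finrank_bot, hV] at h3
        omega)
      (fun hh => by rw [hh.2, finrank_top, hW] at hU; omega)
    rw [finrank_top, hV, hW] at this
    omega
  obtain ⟨g0, hg0, u, hu⟩ := himg ⊥ (by simp)
  rw [mem_bot] at hu
  obtain ⟨v0, hv0, hv0'⟩ : ∃ v0, g0 v0 = 0 ∧ v0 ≠ 0 := by
    by_contra h
    push Not at h
    obtain ⟨z, rfl⟩ := (Submodule.mem_span_range_iff_exists_fun K).1 hg0
    have hinj : Function.Injective (∑ j, z j • f j : V →ₗ[K] W) := (injective_iff_map_eq_zero _).2 h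
    exact hne z ⟨hinj, (LinearMap.injective_iff_surjective_of_finrank_eq_finrank (hV.trans hW.symm)).1 hinj⟩
  have A : ∀ g ∈ L, g v0 ∈ K ∙ g0 u := by
    intro g hg
    by_contra hgv
    have hne0 : g v0 ≠ 0 := fun h => hgv (h ▸ Submodule.zero_mem _)
    obtain ⟨c, hc⟩ := mem_span_singleton.1 (hdep g hg v0 u hne0)
    obtain ⟨d, hd⟩ := mem_span_singleton.1
      (hdep (g0 + g) (L.add_mem hg0 hg) v0 u (by simpa [hv0] using hne0))
    simp only [LinearMap.add_apply, hv0, zero_add, ← hc] at hd
    have h0 : g0 u = (d - c) • g v0 := by rw [sub_smul, hd, add_sub_cancel_right]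
    by_cases hdc : d - c = 0
    · rw [hdc, zero_smul] at h0
      exact hu h0
    · exact hgv (mem_span_singleton.2 ⟨(d - c)⁻¹, by rw [h0, smul_smul, inv_mul_cancel₀ hdc, one_smul]⟩)
  obtain ⟨g1, hg1, hg1v⟩ := hker v0 hv0'
  obtain ⟨g2, hg2, y, hy⟩ := himg (K ∙ g0 u) (by rw [finrank_span_singleton hu])
  have hg2v : g2 v0 = 0 := by
    by_contra h
    exact hy (((span_singleton_le_iff_mem _ _).2 (A g2 hg2)) (hdep g2 hg2 v0 y h))
  have hg1y : g1 y ∈ K ∙ g0 u := ((span_singleton_le_iff_mem _ _).2 (A g1 hg1)) (hdep g1 hg1 v0 y hg1v)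
  have h := hdep (g1 + g2) (L.add_mem hg1 hg2) v0 y (by simpa [hg2v] using hg1v)
  simp only [LinearMap.add_apply, hg2v, add_zero] at h
  exact hy ((Submodule.add_mem_iff_right _ hg1y).1 (((span_singleton_le_iff_mem _ _).2 (A g1 hg1)) h))

omit [FiniteDimensional K V] [FiniteDimensional K W] in
theorem isSubrep_coann {f : Fin n → (V →ₗ[K] W)} {A : Submodule K (Dual K W)} {B : Submodule K (Dual K V)}
    (h : KronMod.IsSubrep (fun j => (f j).dualMap) A B) :
    KronMod.IsSubrep f B.dualCoannihilator A.dualCoannihilator := by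
  rintro j _ ⟨x, hx, rfl⟩
  rw [mem_dualCoannihilator]
  intro a ha
  exact (mem_dualCoannihilator x).1 hx _ (h j ⟨a, ha, rfl⟩)

omit [FiniteDimensional K V] [FiniteDimensional K W] in
theorem isSubrep_ann {f : Fin n → (V →ₗ[K] W)} {V' : Submodule K V} {W' : Submodule K W}
    (h : KronMod.IsSubrep f V' W') :
    KronMod.IsSubrep (fun j => (f j).dualMap) W'.dualAnnihilator V'.dualAnnihilator := by
  rintro j _ ⟨a, ha, rfl⟩
  rw [mem_dualAnnihilator]
  intro x hx
  exact (mem_dualAnnihilator a).1 ha _ (h j ⟨x, hx, rfl⟩)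

theorem dual_iff (f : Fin n → (V →ₗ[K] W)) (r : ℕ → ℕ → Prop)
    (hr : ∀ a b a' b' : ℕ, a + b' = b + a' → (r a b ↔ r a' b')) :
    (∀ (V' : Submodule K V) (W' : Submodule K W), KronMod.IsSubrep f V' W' →
      ¬ (V' = ⊥ ∧ W' = ⊥) → ¬ (V' = ⊤ ∧ W' = ⊤) →
      r (finrank K W * finrank K V') (finrank K V * finrank K W')) ↔
    (∀ (A : Submodule K (Dual K W)) (B : Submodule K (Dual K V)),
      KronMod.IsSubrep (fun j => (f j).dualMap) A B →
      ¬ (A = ⊥ ∧ B = ⊥) → ¬ (A = ⊤ ∧ B = ⊤) →
      r (finrank K (Dual K V) * finrank K A) (finrank K (Dual K W) * finrank K B)) := by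
  constructor
  · intro h A B hAB h0 h1
    have hA := Subspace.finrank_add_finrank_dualCoannihilator_eq A
    have hB := Subspace.finrank_add_finrank_dualCoannihilator_eq B
    have key := h B.dualCoannihilator A.dualCoannihilator (isSubrep_coann hAB)
      (fun hh => h1 ⟨eq_top_of_finrank_eq (by rw [hh.2, finrank_bot] at hA; rw [Subspace.dual_finrank_eq]; omega),
        eq_top_of_finrank_eq (by rw [hh.1, finrank_bot] at hB; rw [Subspace.dual_finrank_eq]; omega)⟩)
      (fun hh => h0 ⟨finrank_eq_zero.1 (by rw [hh.2, finrank_top] at hA; omega),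
        finrank_eq_zero.1 (by rw [hh.1, finrank_top] at hB; omega)⟩)
    simp only [Subspace.dual_finrank_eq]
    refine (hr _ _ _ _ ?_).1 key
    have e1 : finrank K W * finrank K B + finrank K W * finrank K B.dualCoannihilator =
        finrank K W * finrank K V := by rw [← mul_add, hB]
    have e2 : finrank K V * finrank K A + finrank K V * finrank K A.dualCoannihilator =
        finrank K V * finrank K W := by rw [← mul_add, hA]
    nlinarith [mul_comm (finrank K V) (finrank K W)]
  · intro h V' W' hVW h0 h1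
    have hA := Subspace.finrank_add_finrank_dualAnnihilator_eq W'
    have hB := Subspace.finrank_add_finrank_dualAnnihilator_eq V'
    have key := h W'.dualAnnihilator V'.dualAnnihilator (isSubrep_ann hVW)
      (fun hh => h1 ⟨eq_top_of_finrank_eq (by rw [hh.2, finrank_bot] at hB; omega),
        eq_top_of_finrank_eq (by rw [hh.1, finrank_bot] at hA; omega)⟩)
      (fun hh => h0 ⟨finrank_eq_zero.1 (by rw [hh.2, finrank_top, Subspace.dual_finrank_eq] at hB; omega),
        finrank_eq_zero.1 (by rw [hh.1, finrank_top, Subspace.dual_finrank_eq] at hA; omega)⟩)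
    simp only [Subspace.dual_finrank_eq] at key
    refine (hr _ _ _ _ ?_).1 key
    have e1 : finrank K W * finrank K V' + finrank K W * finrank K V'.dualAnnihilator =
        finrank K W * finrank K V := by rw [← mul_add, hB]
    have e2 : finrank K V * finrank K W' + finrank K V * finrank K W'.dualAnnihilator =
        finrank K V * finrank K W := by rw [← mul_add, hA]
    nlinarith [mul_comm (finrank K V) (finrank K W)]

theorem isSemistable_dual_iff (f : Fin n → (V →ₗ[K] W)) :
    KronMod.IsSemistable f ↔ KronMod.IsSemistable (fun j => (f j).dualMap) := by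
  have h := dual_iff f (· ≤ ·) (fun a b a' b' e => by omega)
  constructor
  · exact fun hf => ⟨by simp only [Subspace.dual_finrank_eq]; have := hf.1; omega, h.1 hf.2⟩
  · exact fun hf => ⟨by have := hf.1; simp only [Subspace.dual_finrank_eq] at this; omega, h.2 hf.2⟩

theorem isStable_dual_iff (f : Fin n → (V →ₗ[K] W)) :
    KronMod.IsStable f ↔ KronMod.IsStable (fun j => (f j).dualMap) := by
  have h := dual_iff f (· < ·) (fun a b a' b' e => by omega)
  constructor
  · exact fun hf => ⟨by simp only [Subspace.dual_finrank_eq]; have := hf.1; omega, h.1 hf.2⟩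
  · exact fun hf => ⟨by have := hf.1; simp only [Subspace.dual_finrank_eq] at this; omega, h.2 hf.2⟩

/-- All arrows at once. -/
def Φ (f : Fin n → (V →ₗ[K] W)) : V →ₗ[K] (Fin n → W) := LinearMap.pi f

omit [FiniteDimensional K V] [FiniteDimensional K W] in
theorem injective_Φ {f : Fin n → (V →ₗ[K] W)} (hf : KronMod.IsSemistable f) (hW : 0 < finrank K W) :
    Function.Injective (Φ f) := by
  rw [injective_iff_map_eq_zero]
  intro v hv
  by_contra hne
  have := hf.2 (K ∙ v) ⊥ (fun j => by
      rw [Submodule.map_span, Set.image_singleton, Submodule.span_le, Set.singleton_subset_iff]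
      exact congrFun hv j)
    (fun h => hne (span_singleton_eq_bot.1 h.1))
    (fun h => by rw [← finrank_top K W, ← h.2, finrank_bot] at hW; exact lt_irrefl _ hW)
  rw [finrank_span_singleton hne, finrank_bot] at this
  omega

noncomputable def ΦEquiv {f : Fin n → (V →ₗ[K] W)} (hf : KronMod.IsSemistable f) (hW : 0 < finrank K W)
    (hV : finrank K V = n * finrank K W) : V ≃ₗ[K] (Fin n → W) :=
  (Φ f).linearEquivOfInjective (injective_Φ hf hW) (by rw [finrank_pi_fintype]; simp [hV])

theorem exists_semistable_unique (hW : 0 < finrank K W) (hV : finrank K V = n * finrank K W) :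
    (∃ f : Fin n → (V →ₗ[K] W), KronMod.IsSemistable f) ∧
      ∀ f f' : Fin n → (V →ₗ[K] W), KronMod.IsSemistable f → KronMod.IsSemistable f' → KronMod.AreIso f f' := by
  refine ⟨?_, fun f f' hf hf' => ?_⟩
  · let e : V ≃ₗ[K] (Fin n → W) := LinearEquiv.ofFinrankEq _ _ (by rw [finrank_pi_fintype]; simp [hV])
    refine ⟨fun j => LinearMap.proj j ∘ₗ e.toLinearMap, by omega, fun V' W' h _ _ => ?_⟩
    let φ : V' →ₗ[K] (Fin n → W') :=
      LinearMap.pi fun j => ((LinearMap.proj j ∘ₗ e.toLinearMap) ∘ₗ V'.subtype).codRestrict W'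
        (fun x => h j ⟨x, x.2, rfl⟩)
    have hφ : Function.Injective φ := fun a b hab =>
      Subtype.ext (e.injective (funext fun j => congrArg Subtype.val (congrFun hab j)))
    have h1 := LinearMap.finrank_le_finrank_of_injective hφ
    rw [finrank_pi_fintype] at h1
    simp at h1
    rw [hV]
    nlinarith
  · refine ⟨(ΦEquiv hf hW hV).trans (ΦEquiv hf' hW hV).symm, LinearEquiv.refl K W, fun j => LinearMap.ext fun x => ?_⟩
    have := congrFun ((ΦEquiv hf' hW hV).apply_symm_apply (ΦEquiv hf hW hV x)) j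
    exact this.symm

theorem isStable_iff_dual_case (f : Fin n → (V →ₗ[K] W)) (hW : 0 < finrank K W)
    (hV : finrank K V = n * finrank K W) :
    KronMod.IsStable f ↔ KronMod.IsSemistable f ∧ finrank K W = 1 := by
  constructor
  · intro hf
    have hss : KronMod.IsSemistable f := ⟨hf.1, fun V' W' h h0 h1 => (hf.2 V' W' h h0 h1).le⟩
    refine ⟨hss, ?_⟩
    by_contra h1
    have : Nontrivial W := nontrivial_of_finrank_pos hW
    obtain ⟨w, hw⟩ := exists_ne (0 : W)
    let ψ : (Fin n → (K ∙ w)) →ₗ[K] V :=
      (ΦEquiv hss hW hV).symm.toLinearMap ∘ₗ LinearMap.pi fun j => (K ∙ w).subtype ∘ₗ LinearMap.proj j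
    have hψ : Function.Injective ψ := fun a b hab => funext fun j =>
      Subtype.ext (congrFun ((ΦEquiv hss hW hV).symm.injective hab) j)
    have := hf.2 (LinearMap.range ψ) (K ∙ w) (fun j => by
        rintro _ ⟨_, ⟨a, rfl⟩, rfl⟩
        have he := congrFun ((ΦEquiv hss hW hV).apply_symm_apply
          (fun j => (K ∙ w).subtype (a j))) j
        change f j _ = _ at he
        exact (show f j (ψ a) = _ from he) ▸ (a j).2)
      (fun h => hw (span_singleton_eq_bot.1 h.2))
      (fun h => h1 (by rw [← finrank_top K W, ← h.2, finrank_span_singleton hw]))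
    rw [LinearMap.finrank_range_of_inj hψ, finrank_pi_fintype, finrank_span_singleton hw, hV] at this
    simp [mul_comm] at this
  · rintro ⟨hf, hW1⟩
    refine ⟨hf.1, fun V' W' h h0 h1 => ?_⟩
    have hle := hf.2 V' W' h h0 h1
    rw [hW1, one_mul] at hle ⊢
    have hw' : finrank K W' ≤ 1 := hW1 ▸ Submodule.finrank_le W'
    rcases Nat.le_one_iff_eq_zero_or_eq_one.1 hw' with hw' | hw'
    · rw [hw', mul_zero, Nat.le_zero] at hle
      exact absurd ⟨finrank_eq_zero.1 hle, finrank_eq_zero.1 hw'⟩ h0
    · have hWt : W' = ⊤ := eq_top_of_finrank_eq (hw'.trans hW1.symm)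
      rw [hw', mul_one]
      exact Submodule.finrank_lt (fun hVt => h1 ⟨hVt, hWt⟩)

end Groth.Agent.SmallAlg.Kron
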