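import Mathlib

/-!
# Monomials in three variables with prescribed weights
-/

set_option autoImplicit false

universe u

open MvPolynomial

namespace Groth.Agent.SmallAlg.MonoWeight

variable {k : Type u} [Field k]

/-- `X₀^a X₁^b X₂^c`. -/
noncomputable def M (k : Type u) [Field k] (a b c : ℕ) : MvPolynomial (Fin 3) k := X 0 ^ a * X 1 ^ b * X 2 ^ c

theorem M_sub_mem_of_le (p q : ℕ) (hpq : p ≤ q) (d0 d1 d2 e0 e1 e2 : ℕ)
    (hn : (e0 : ℤ) - (p : ℤ) * e1 + (q : ℤ) * e2 = (d0 : ℤ) - (p : ℤ) * d1 + (q : ℤ) * d2)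
    (hc : (d1 : ℤ) - d2 = (e1 : ℤ) - e2) (hle : e2 ≤ d2) :
    M k d0 d1 d2 - M k e0 e1 e2 ∈ Ideal.span {X (0 : Fin 3) ^ (q - p) - X 1 * X 2} := by
  obtain ⟨t, rfl⟩ := Nat.exists_eq_add_of_le hle
  obtain rfl : d1 = e1 + t := by omega
  have h0 : e0 = d0 + t * (q - p) := by
    zify [hpq]
    push_cast at hn
    linarith
  subst h0
  obtain ⟨r, hr⟩ := sub_dvd_pow_sub_pow (X (0 : Fin 3) ^ (q - p)) (X 1 * X 2 : MvPolynomial (Fin 3) k) t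
  refine Ideal.mem_span_singleton.2 ⟨-(X 0 ^ d0 * X 1 ^ e1 * X 2 ^ e2) * r, ?_⟩
  have e : M k d0 (e1 + t) (e2 + t) - M k (d0 + t * (q - p)) e1 e2 =
      -(X 0 ^ d0 * X 1 ^ e1 * X 2 ^ e2) * ((X 0 ^ (q - p)) ^ t - (X 1 * X 2) ^ t) := by
    simp only [M, pow_add, mul_pow, ← pow_mul, mul_comm t]
    ring
  rw [e, hr]
  ring

theorem M_sub_mem (p q : ℕ) (hpq : p ≤ q) (d0 d1 d2 e0 e1 e2 : ℕ)
    (hn : (e0 : ℤ) - (p : ℤ) * e1 + (q : ℤ) * e2 = (d0 : ℤ) - (p : ℤ) * d1 + (q : ℤ) * d2)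
    (hc : (d1 : ℤ) - d2 = (e1 : ℤ) - e2) :
    M k d0 d1 d2 - M k e0 e1 e2 ∈ Ideal.span {X (0 : Fin 3) ^ (q - p) - X 1 * X 2} := by
  rcases le_total e2 d2 with h | h
  · exact M_sub_mem_of_le p q hpq _ _ _ _ _ _ hn hc h
  · have h2 := Submodule.neg_mem _ (M_sub_mem_of_le (k := k) p q hpq _ _ _ _ _ _ hn.symm hc.symm h)
    rwa [neg_sub] at h2

theorem M_shift (m p : ℕ) (s e0 e1 e2 : ℕ) :
    M k (e0 + m * p * s) (e1 + m * s) e2 = (X 0 ^ (m * p) * X 1 ^ m) ^ s * M k e0 e1 e2 := by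
  simp only [M, pow_add, mul_pow, ← pow_mul]
  ring

theorem M_lt (p q m : ℕ) (hpq : p ≤ q) (hm : 0 < m) (d0 d1 d2 e0 e1 e2 : ℕ)
    (hn : (e0 : ℤ) - (p : ℤ) * e1 + (q : ℤ) * e2 = (d0 : ℤ) - (p : ℤ) * d1 + (q : ℤ) * d2)
    (hc : (m : ℤ) ∣ ((d1 : ℤ) - d2) - ((e1 : ℤ) - e2)) (hlt : (e1 : ℤ) - e2 < (d1 : ℤ) - d2) :
    M k d0 d1 d2 ∈ Ideal.span {X (0 : Fin 3) ^ (q - p) - X 1 * X 2, X 0 ^ (m * p) * X 1 ^ m} ∧
    M k d0 d1 d2 - M k e0 e1 e2 ∈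
      Ideal.span {X (0 : Fin 3) ^ (q - p) - X 1 * X 2, 1 - X 0 ^ (m * p) * X 1 ^ m} := by
  obtain ⟨z, hz⟩ := hc
  have hz0 : 0 < z := by
    by_contra h
    push Not at h
    have : (m : ℤ) * z ≤ 0 := mul_nonpos_of_nonneg_of_nonpos (Int.natCast_nonneg m) h
    omega
  lift z to ℕ using hz0.le with s
  have h1 : M k d0 d1 d2 - M k (e0 + m * p * s) (e1 + m * s) e2 ∈
      Ideal.span {X (0 : Fin 3) ^ (q - p) - X 1 * X 2} :=
    M_sub_mem p q hpq _ _ _ _ _ _ (by push_cast; linear_combination hn) (by push_cast; linarith)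
  rw [M_shift] at h1
  obtain ⟨r, hr⟩ := Ideal.mem_span_singleton.1 h1
  obtain ⟨s', rfl⟩ := Nat.exists_eq_add_of_le (Nat.one_le_iff_ne_zero.2 (by omega : s ≠ 0))
  constructor
  · refine Ideal.mem_span_pair.2 ⟨r, (X 0 ^ (m * p) * X 1 ^ m) ^ s' * M k e0 e1 e2, ?_⟩
    rw [pow_add, pow_one] at hr
    linear_combination -hr
  · obtain ⟨c, hc⟩ := sub_dvd_pow_sub_pow (1 : MvPolynomial (Fin 3) k) (X 0 ^ (m * p) * X 1 ^ m) (1 + s')
    refine Ideal.mem_span_pair.2 ⟨r, -(c * M k e0 e1 e2), ?_⟩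
    rw [one_pow] at hc
    linear_combination -hr + M k e0 e1 e2 * hc

theorem weight_max (p q : ℕ) (hp : 0 < p) (hpq : p < q) (d0 d1 d2 : ℕ) :
    (∀ e0 e1 e2 : ℕ, (e0 : ℤ) - (p : ℤ) * e1 + (q : ℤ) * e2 = (d0 : ℤ) - (p : ℤ) * d1 + (q : ℤ) * d2 →
      (e1 : ℤ) - e2 = (d1 : ℤ) - d2 → (p : ℤ) * e1 - (q : ℤ) * e2 ≤
        (if (d1 : ℤ) - d2 < 0 then (q : ℤ) * ((d1 : ℤ) - d2) else (p : ℤ) * ((d1 : ℤ) - d2))) ∧
    (∃ e0 e1 e2 : ℕ, (e0 : ℤ) - (p : ℤ) * e1 + (q : ℤ) * e2 = (d0 : ℤ) - (p : ℤ) * d1 + (q : ℤ) * d2 ∧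
      (e1 : ℤ) - e2 = (d1 : ℤ) - d2 ∧ (p : ℤ) * e1 - (q : ℤ) * e2 =
        (if (d1 : ℤ) - d2 < 0 then (q : ℤ) * ((d1 : ℤ) - d2) else (p : ℤ) * ((d1 : ℤ) - d2))) := by
  have hqp : (0 : ℤ) ≤ (q : ℤ) - p := by omega
  refine ⟨fun e0 e1 e2 _ hc => ?_, ?_⟩
  · split_ifs with h
    · have : (0 : ℤ) ≤ ((q : ℤ) - p) * e1 := mul_nonneg hqp (Int.natCast_nonneg _)
      nlinarith [this]
    · have : (0 : ℤ) ≤ ((q : ℤ) - p) * e2 := mul_nonneg hqp (Int.natCast_nonneg _)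
      nlinarith [this]
  · rcases le_or_gt d2 d1 with h | h
    · obtain ⟨c, rfl⟩ := Nat.exists_eq_add_of_le h
      refine ⟨d0 + (q - p) * d2, c, 0, ?_, by push_cast; ring, ?_⟩
      · push_cast [Nat.cast_sub hpq.le]; ring
      · rw [if_neg (by omega)]; push_cast; ring
    · obtain ⟨c, rfl⟩ := Nat.exists_eq_add_of_le h.le
      refine ⟨d0 + (q - p) * d1, 0, c, ?_, by push_cast; ring, ?_⟩
      · push_cast [Nat.cast_sub hpq.le]; ring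
      · rw [if_pos (by omega)]; push_cast; ring

theorem weight_min (p q : ℕ) (hpq : p < q) (d0 d1 d2 : ℕ) :
    d0 < q - p ↔ ∀ e0 e1 e2 : ℕ, (e0 : ℤ) - (p : ℤ) * e1 + (q : ℤ) * e2 = (d0 : ℤ) - (p : ℤ) * d1 + (q : ℤ) * d2 →
      (e1 : ℤ) - e2 = (d1 : ℤ) - d2 → (p : ℤ) * d1 - (q : ℤ) * d2 ≤ (p : ℤ) * e1 - (q : ℤ) * e2 := by
  constructor
  · intro h e0 e1 e2 hn hc
    by_contra hlt
    have hd : (d0 : ℤ) < (q : ℤ) - p := by omega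
    have h1 : ((q : ℤ) - p) * ((e2 : ℤ) - d2) = d0 - e0 := by linear_combination hn + (p : ℤ) * hc
    have h2 : (e0 : ℤ) < d0 := by linarith
    have h3 : (0 : ℤ) < (e2 : ℤ) - d2 := pos_of_mul_pos_right (by rw [h1]; linarith) (by omega)
    nlinarith [Int.natCast_nonneg e0]
  · intro h
    by_contra hd
    have h' := h (d0 - (q - p)) (d1 + 1) (d2 + 1)
      (by push_cast [Nat.cast_sub (not_lt.1 hd), Nat.cast_sub hpq.le]; ring) (by push_cast; ring)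
    push_cast at h'
    linarith [show (p : ℤ) < q by omega]

theorem nonneg_iff (p q : ℕ) (hpq : p < q) (d0 d1 d2 : ℕ)
    (hn : 0 ≤ (d0 : ℤ) - (p : ℤ) * d1 + (q : ℤ) * d2) (hd0 : d0 < q - p) :
    0 ≤ (p : ℤ) * d1 - (q : ℤ) * d2 ↔
      Int.emod ((p : ℤ) * ((d1 : ℤ) - d2)) ((q : ℤ) - p) + ((d0 : ℤ) - (p : ℤ) * d1 + (q : ℤ) * d2) < (q : ℤ) - p := by
  have hD : (0 : ℤ) < (q : ℤ) - p := by omega
  have hd : (d0 : ℤ) < (q : ℤ) - p := by omega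
  have h1 : ((p : ℤ) * ((d1 : ℤ) - d2)) % ((q : ℤ) - p) = ((p : ℤ) * d1 - (q : ℤ) * d2) % ((q : ℤ) - p) := by
    rw [show (p : ℤ) * ((d1 : ℤ) - d2) = ((p : ℤ) * d1 - (q : ℤ) * d2) + ((q : ℤ) - p) * d2 by ring,
      Int.add_mul_emod_self_left]
  change _ ↔ ((p : ℤ) * ((d1 : ℤ) - d2)) % ((q : ℤ) - p) + _ < _
  rw [h1]
  constructor
  · intro h
    rw [Int.emod_eq_of_lt h (by linarith)]
    linarith
  · intro h
    by_contra hneg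
    have h2 := Int.emod_nonneg ((p : ℤ) * d1 - (q : ℤ) * d2) hD.ne'
    have h3 := Int.emod_add_mul_ediv ((p : ℤ) * d1 - (q : ℤ) * d2) ((q : ℤ) - p)
    set r := ((p : ℤ) * d1 - (q : ℤ) * d2) % ((q : ℤ) - p)
    set t := ((p : ℤ) * d1 - (q : ℤ) * d2) / ((q : ℤ) - p)
    have h4 : t ≤ -1 := by
      by_contra h4
      push Not at h4
      have := mul_nonneg hD.le (show (0 : ℤ) ≤ t by omega)
      linarith
    have := mul_le_mul_of_nonneg_left h4 hD.le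
    linarith [Int.natCast_nonneg d0]

theorem congr_g (p q m : ℕ) (hpq : p < q) (hcop : Nat.Coprime p q) (hm : 0 < m) (d0 d1 d2 e0 e1 e2 : ℕ)
    (hn : (e0 : ℤ) - (p : ℤ) * e1 + (q : ℤ) * e2 = (d0 : ℤ) - (p : ℤ) * d1 + (q : ℤ) * d2)
    (hc : (m : ℤ) ∣ ((d1 : ℤ) - d2) - ((e1 : ℤ) - e2))
    (hd0 : d0 < Nat.gcd m (q - p)) (he0 : e0 < Nat.gcd m (q - p)) :
    d0 = e0 ∧ ∃ s : ℤ, (e1 : ℤ) - d1 = s * ((m / Nat.gcd m (q - p) * q : ℕ) : ℤ) ∧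
      (e2 : ℤ) - d2 = s * ((m / Nat.gcd m (q - p) * p : ℕ) : ℤ) ∧
      ((e1 : ℤ) - e2) - ((d1 : ℤ) - d2) = s * ((m : ℤ) * ((q - p) / Nat.gcd m (q - p) : ℕ)) := by
  have hg0 : 0 < Nat.gcd m (q - p) := Nat.gcd_pos_of_pos_left _ hm
  obtain ⟨a, ha⟩ := Nat.gcd_dvd_left m (q - p)
  obtain ⟨b, hb⟩ := Nat.gcd_dvd_right m (q - p)
  have hab : Nat.Coprime a b := by
    have := Nat.coprime_div_gcd_div_gcd hg0
    rwa [Nat.div_eq_of_eq_mul_right hg0 ha, Nat.div_eq_of_eq_mul_right hg0 hb] at this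
  rw [Nat.div_eq_of_eq_mul_right hg0 ha, Nat.div_eq_of_eq_mul_right hg0 hb]
  set g := Nat.gcd m (q - p)
  have hqp : (q : ℤ) - p = g * b := by
    have := congrArg (Nat.cast : ℕ → ℤ) hb
    push_cast [Nat.cast_sub hpq.le] at this
    exact this
  have hmz : (m : ℤ) = g * a := by exact_mod_cast ha
  obtain ⟨uv, huv⟩ := hc
  have h1 : (d0 : ℤ) - e0 = g * (p * a * uv + b * (e2 - d2)) := by
    linear_combination -hn + (p : ℤ) * huv + ((e2 : ℤ) - d2) * hqp + ((p : ℤ) * uv) * hmz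
  have h2 : d0 = e0 := by
    have : ((d0 : ℤ) - e0) = 0 := by
      refine Int.eq_zero_of_abs_lt_dvd ⟨_, h1⟩ ?_
      rw [abs_lt]; omega
    omega
  subst h2
  have h3 : (p : ℤ) * a * uv + b * ((e2 : ℤ) - d2) = 0 := by
    rw [sub_self] at h1
    exact (mul_eq_zero.1 h1.symm).resolve_left (by omega)
  have hpb : Nat.Coprime p b := by
    have h4 : Nat.Coprime p (q - p) := by
      rw [Nat.coprime_sub_self_right hpq.le]; exact hcop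
    exact h4.coprime_dvd_right ⟨g, by rw [hb, mul_comm]⟩
  have hdvd : (b : ℤ) ∣ uv := by
    have h5 : IsCoprime (b : ℤ) ((p * a : ℕ) : ℤ) :=
      Nat.Coprime.isCoprime (Nat.Coprime.mul_right hpb.symm hab.symm)
    refine h5.dvd_of_dvd_mul_left ⟨-((e2 : ℤ) - d2), ?_⟩
    push_cast
    linarith
  obtain ⟨w, hw⟩ := hdvd
  refine ⟨rfl, -w, ?_, ?_, ?_⟩
  · have h6 : (e2 : ℤ) - d2 = -w * (a * p) := by
      by_cases hb0 : b = 0
      · subst hb0; simp at hb; omega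
      · exact mul_left_cancel₀ (show (b : ℤ) ≠ 0 by exact_mod_cast hb0)
          (by rw [hw] at h3; linear_combination h3)
    push_cast
    linear_combination h6 - huv - (m : ℤ) * hw - (b : ℤ) * w * hmz + (a : ℤ) * w * hqp
  · push_cast
    by_cases hb0 : b = 0
    · subst hb0; simp at hb; omega
    · exact mul_left_cancel₀ (show (b : ℤ) ≠ 0 by exact_mod_cast hb0)
        (by rw [hw] at h3; linear_combination h3)
  · linear_combination -huv - (m : ℤ) * hw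

theorem M_pow (A B s d0 d1 d2 : ℕ) :
    M k d0 (d1 + s * A) (d2 + s * B) = M k d0 d1 d2 * (X 1 ^ A * X 2 ^ B) ^ s := by
  simp only [M, pow_add, mul_pow, ← pow_mul]
  ring

theorem M_g (p q m : ℕ) (hpq : p < q) (hcop : Nat.Coprime p q) (hm : 0 < m) (d0 d1 d2 e0 e1 e2 : ℕ)
    (hn : (e0 : ℤ) - (p : ℤ) * e1 + (q : ℤ) * e2 = (d0 : ℤ) - (p : ℤ) * d1 + (q : ℤ) * d2)
    (hcd : (m : ℤ) ∣ (d1 : ℤ) - d2) (hce : (m : ℤ) ∣ (e1 : ℤ) - e2)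
    (hd0 : d0 < Nat.gcd m (q - p)) (he0 : e0 < Nat.gcd m (q - p)) :
    (d0 = e0 ∧ ((m : ℤ) * ((q - p) / Nat.gcd m (q - p) : ℕ)) ∣ ((d1 : ℤ) - d2) - ((e1 : ℤ) - e2)) ∧
    ((d1 : ℤ) - d2 < (e1 : ℤ) - e2 →
      M k d0 d1 d2 * (X 1 ^ (m / Nat.gcd m (q - p) * q) * X 2 ^ (m / Nat.gcd m (q - p) * p)) ∣ M k e0 e1 e2) ∧
    M k e0 e1 e2 - M k d0 d1 d2 ∈
      Ideal.span {(1 : MvPolynomial (Fin 3) k) - X 1 ^ (m / Nat.gcd m (q - p) * q) * X 2 ^ (m / Nat.gcd m (q - p) * p)} := by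
  obtain ⟨rfl, s, h1, h2, h3⟩ := congr_g p q m hpq hcop hm d0 d1 d2 e0 e1 e2 hn (dvd_sub hcd hce) hd0 he0
  generalize m / Nat.gcd m (q - p) * q = A at *
  generalize m / Nat.gcd m (q - p) * p = B at *
  generalize (q - p) / Nat.gcd m (q - p) = b at *
  refine ⟨⟨rfl, ⟨-s, by linear_combination -h3⟩⟩, fun hlt => ?_, ?_⟩
  · have hs : 0 < s := pos_of_mul_pos_left (by rw [← h3]; linarith) (mul_nonneg (Int.natCast_nonneg m) (Int.natCast_nonneg b))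
    lift s to ℕ using hs.le with t
    obtain rfl : e1 = d1 + t * A := by zify; linarith
    obtain rfl : e2 = d2 + t * B := by zify; linarith
    rw [M_pow]
    exact mul_dvd_mul_left _ (dvd_pow_self _ (by omega))
  · rw [Ideal.mem_span_singleton]
    obtain ⟨t, rfl | rfl⟩ := s.eq_nat_or_neg
    · obtain rfl : e1 = d1 + t * A := by zify; linarith
      obtain rfl : e2 = d2 + t * B := by zify; linarith
      rw [M_pow]
      obtain ⟨c, hc⟩ := sub_dvd_pow_sub_pow (1 : MvPolynomial (Fin 3) k) (X 1 ^ A * X 2 ^ B) t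
      rw [one_pow] at hc
      exact ⟨-(M k d0 d1 d2 * c), by linear_combination (-M k d0 d1 d2) * hc⟩
    · obtain rfl : d1 = e1 + t * A := by zify; linarith
      obtain rfl : d2 = e2 + t * B := by zify; linarith
      rw [M_pow]
      obtain ⟨c, hc⟩ := sub_dvd_pow_sub_pow (1 : MvPolynomial (Fin 3) k) (X 1 ^ A * X 2 ^ B) t
      rw [one_pow] at hc
      exact ⟨M k d0 e1 e2 * c, by linear_combination M k d0 e1 e2 * hc⟩

end Groth.Agent.SmallAlg.MonoWeight
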