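import Mathlib
import Groth.Agent.HJChain.Basic
import Groth.Agent.SmallAlg.MonoWeight
import Groth.Prelude.Def_W4c2invhilbsl2
import Groth.Prelude.Def_W4c2invhilbsl2HJ

/-!
# Hirzebruch–Jung bookkeeping and weight pieces of graded polynomial rings in three and five variables
-/

set_option autoImplicit false

universe u v w

open MvPolynomial

namespace Groth.Agent.SmallAlg.HJWeight

section General

variable {k : Type u} [Field k] {σ : Type v} {M : Type w} [AddCommMonoid M]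

/-- Induction over the monomials of a weighted homogeneous polynomial. -/
theorem homog_induction {w : σ → M} {ν : M} {P : MvPolynomial σ k → Prop} {f : MvPolynomial σ k}
    (hf : f ∈ weightedHomogeneousSubmodule k w ν) (h0 : P 0) (hadd : ∀ a b, P a → P b → P (a + b))
    (hmono : ∀ d c, Finsupp.weight w d = ν → P (monomial d c)) : P f := by
  rw [f.as_sum]
  exact Finset.sum_induction _ P hadd h0 (fun d hd => hmono d _ (hf (mem_support_iff.1 hd)))

theorem rank_piece_le_one (w : σ → M) (I : Ideal (MvPolynomial σ k)) (ν : M)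
    (h : ∀ d e : σ →₀ ℕ, Finsupp.weight w d = ν → Finsupp.weight w e = ν →
      monomial d (1 : k) ∈ I ∨ monomial e (1 : k) ∈ I ∨ ∃ c : k, monomial d (1 : k) - C c * monomial e 1 ∈ I) :
    Module.rank k (W4c2invhilbsl2.piece k w I ν) ≤ 1 := by
  rw [rank_submodule_le_one_iff']
  have key : ∀ v₀ : MvPolynomial σ k ⧸ I,
      (∀ d, Finsupp.weight w d = ν → Ideal.Quotient.mk I (monomial d (1 : k)) ∈ Submodule.span k {v₀}) →
      W4c2invhilbsl2.piece k w I ν ≤ Submodule.span k {v₀} := by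
    rintro v₀ hv _ ⟨f, hf, rfl⟩
    refine homog_induction (P := fun g => (Ideal.Quotient.mkₐ k I).toLinearMap g ∈ Submodule.span k {v₀}) hf
      (by simp) (fun a b ha hb => by rw [map_add]; exact add_mem ha hb) (fun d c hd => ?_)
    rw [show monomial d c = c • monomial d (1 : k) by rw [smul_monomial, smul_eq_mul, mul_one], map_smul]
    exact Submodule.smul_mem _ _ (hv d hd)
  by_cases hall : ∀ d, Finsupp.weight w d = ν → monomial d (1 : k) ∈ I
  · exact ⟨0, key 0 fun d hd => by rw [Ideal.Quotient.eq_zero_iff_mem.2 (hall d hd)]; exact Submodule.zero_mem _⟩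
  · push Not at hall
    obtain ⟨e, he, heI⟩ := hall
    refine ⟨Ideal.Quotient.mk I (monomial e 1), key _ fun d hd => ?_⟩
    rcases h d e hd he with h' | h' | ⟨c, h'⟩
    · rw [Ideal.Quotient.eq_zero_iff_mem.2 h']; exact Submodule.zero_mem _
    · exact absurd h' heI
    · rw [Ideal.Quotient.eq.2 h', map_mul]
      exact Submodule.mem_span_singleton.2 ⟨c, by rw [← map_mul, ← MvPolynomial.smul_eq_C_mul]; rfl⟩

end General

section Three

variable {k : Type u} [Field k] (p q m : ℕ)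

theorem mono3 (d : Fin 3 →₀ ℕ) : monomial d (1 : k) = X 0 ^ d 0 * X 1 ^ d 1 * X 2 ^ d 2 := by
  rw [monomial_eq, Finsupp.prod_fintype _ _ (fun i => pow_zero _), Fin.prod_univ_three, map_one, one_mul]

theorem weight3 (d : Fin 3 →₀ ℕ) : Finsupp.weight (W4c2invhilbsl2.wt3 p q m) d =
    ((d 0 : ℤ) - (p : ℤ) * d 1 + (q : ℤ) * d 2, (((d 2 : ℤ) - d 1 : ℤ) : ZMod m)) := by
  rw [Finsupp.weight_apply, Finsupp.sum_fintype _ _ (fun i => by simp), Fin.sum_univ_three]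
  simp [W4c2invhilbsl2.wt3, Prod.ext_iff]
  constructor <;> ring

theorem weight3_eq_iff (d : Fin 3 →₀ ℕ) (n C : ℤ) :
    Finsupp.weight (W4c2invhilbsl2.wt3 p q m) d = (n, ((-C : ℤ) : ZMod m)) ↔
      (d 0 : ℤ) - (p : ℤ) * d 1 + (q : ℤ) * d 2 = n ∧ (m : ℤ) ∣ ((d 1 : ℤ) - d 2) - C := by
  rw [weight3, Prod.mk.injEq, ZMod.intCast_eq_intCast_iff_dvd_sub]
  rw [show -C - ((d 2 : ℤ) - d 1) = (d 1 : ℤ) - d 2 - C by ring]

theorem weight3_zero_iff (d : Fin 3 →₀ ℕ) :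
    Finsupp.weight (W4c2invhilbsl2.wt3 p q m) d = 0 ↔
      (d 0 : ℤ) - (p : ℤ) * d 1 + (q : ℤ) * d 2 = 0 ∧ (m : ℤ) ∣ ((d 1 : ℤ) - d 2) := by
  have := weight3_eq_iff p q m d 0 0
  simpa [Prod.mk_zero_zero] using this

theorem weight3_n_iff (d : Fin 3 →₀ ℕ) (n : ℤ) :
    Finsupp.weight (W4c2invhilbsl2.wt3 p q m) d = (n, (0 : ZMod m)) ↔
      (d 0 : ℤ) - (p : ℤ) * d 1 + (q : ℤ) * d 2 = n ∧ (m : ℤ) ∣ ((d 1 : ℤ) - d 2) := by
  have := weight3_eq_iff p q m d n 0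
  simpa using this

theorem weight3_congr {d e : Fin 3 →₀ ℕ}
    (h : Finsupp.weight (W4c2invhilbsl2.wt3 p q m) d = Finsupp.weight (W4c2invhilbsl2.wt3 p q m) e) :
    (d 0 : ℤ) - (p : ℤ) * d 1 + (q : ℤ) * d 2 = (e 0 : ℤ) - (p : ℤ) * e 1 + (q : ℤ) * e 2 ∧
      (m : ℤ) ∣ ((d 1 : ℤ) - d 2) - ((e 1 : ℤ) - e 2) := by
  rw [weight3 p q m e, show ((e 2 : ℤ) - e 1) = -((e 1 : ℤ) - e 2) by ring, weight3_eq_iff] at h
  exact h

/-- The exponent vector `(a, b, c)`. -/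
noncomputable def mk3 (a b c : ℕ) : Fin 3 →₀ ℕ := Finsupp.equivFunOnFinite.symm ![a, b, c]

@[simp] theorem mk3_zero (a b c : ℕ) : mk3 a b c 0 = a := rfl
@[simp] theorem mk3_one (a b c : ℕ) : mk3 a b c 1 = b := rfl
@[simp] theorem mk3_two (a b c : ℕ) : mk3 a b c 2 = c := rfl

/-- A monomial of weight zero. -/
theorem hom3_zero (a b c : ℕ) (x : k) (hn : (a : ℤ) - (p : ℤ) * b + (q : ℤ) * c = 0)
    (hd : (m : ℤ) ∣ ((b : ℤ) - c)) :
    monomial (mk3 a b c) x ∈ weightedHomogeneousSubmodule k (W4c2invhilbsl2.wt3 p q m) 0 :=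
  isWeightedHomogeneous_monomial _ _ _ ((weight3_zero_iff p q m _).2 ⟨by simpa using hn, by simpa using hd⟩)

theorem monomial3 (d : Fin 3 →₀ ℕ) (x : k) : monomial d x = C x * (X 0 ^ d 0 * X 1 ^ d 1 * X 2 ^ d 2) := by
  conv_lhs => rw [← mul_one x, ← C_mul_monomial, mono3]

theorem monomial_mk3 (a b c : ℕ) (x : k) : monomial (mk3 a b c) x = C x * (X 0 ^ a * X 1 ^ b * X 2 ^ c) := by
  rw [monomial3]
  rfl

/-- Decomposition along two generating monomials. -/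
theorem decomp3 (n : ℤ) (N E L : ℕ) (hN : (N : ℤ) = n) (hEL : (q : ℤ) * L - (p : ℤ) * E = n)
    (hm : (m : ℤ) ∣ (E : ℤ) - L)
    (hdich : ∀ d0 d1 d2 : ℕ, (d0 : ℤ) - (p : ℤ) * d1 + (q : ℤ) * d2 = n → (m : ℤ) ∣ ((d1 : ℤ) - d2) →
      N ≤ d0 ∨ (E ≤ d1 ∧ L ≤ d2))
    (f : MvPolynomial (Fin 3) k) (hf : f ∈ weightedHomogeneousSubmodule k (W4c2invhilbsl2.wt3 p q m) (n, (0 : ZMod m))) :
    ∃ a b : MvPolynomial (Fin 3) k, a ∈ weightedHomogeneousSubmodule k (W4c2invhilbsl2.wt3 p q m) 0 ∧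
      b ∈ weightedHomogeneousSubmodule k (W4c2invhilbsl2.wt3 p q m) 0 ∧
      f = a * X (0 : Fin 3) ^ N + b * (X (1 : Fin 3) ^ E * X (2 : Fin 3) ^ L) := by
  refine homog_induction (P := fun g => ∃ a b : MvPolynomial (Fin 3) k, a ∈ weightedHomogeneousSubmodule k (W4c2invhilbsl2.wt3 p q m) 0 ∧
      b ∈ weightedHomogeneousSubmodule k (W4c2invhilbsl2.wt3 p q m) 0 ∧ g = a * X 0 ^ N + b * (X 1 ^ E * X 2 ^ L)) hf
    ⟨0, 0, zero_mem _, zero_mem _, by simp⟩ ?_ ?_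
  · rintro _ _ ⟨a, b, ha, hb, rfl⟩ ⟨a', b', ha', hb', rfl⟩
    exact ⟨a + a', b + b', add_mem ha ha', add_mem hb hb', by ring⟩
  · intro d x hd
    obtain ⟨h1, h2⟩ := (weight3_n_iff p q m d n).1 hd
    rcases hdich _ _ _ h1 h2 with h | ⟨h, h'⟩
    · refine ⟨monomial (mk3 (d 0 - N) (d 1) (d 2)) x, 0, hom3_zero p q m _ _ _ x (by omega) h2, zero_mem _, ?_⟩
      rw [monomial_mk3, monomial3, zero_mul, add_zero]
      conv_lhs => rw [← Nat.sub_add_cancel h, pow_add]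
      ring
    · refine ⟨0, monomial (mk3 (d 0) (d 1 - E) (d 2 - L)) x, zero_mem _, hom3_zero p q m _ _ _ x ?_ ?_, ?_⟩
      · push_cast [Nat.cast_sub h, Nat.cast_sub h']; linarith
      · have e : (((d 1 - E : ℕ) : ℤ) - ((d 2 - L : ℕ) : ℤ)) = ((d 1 : ℤ) - d 2) - ((E : ℤ) - L) := by
          push_cast [Nat.cast_sub h, Nat.cast_sub h']; ring
        exact e ▸ dvd_sub h2 hm
      rw [monomial_mk3, monomial3, zero_mul, zero_add]
      conv_lhs => rw [← Nat.sub_add_cancel h, ← Nat.sub_add_cancel h', pow_add, pow_add]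
      ring

theorem dich_qp (hpq : p < q) (hp : 0 < p) (d0 d1 d2 : ℕ)
    (h : (d0 : ℤ) - (p : ℤ) * d1 + (q : ℤ) * d2 = (q : ℤ) - p) : q - p ≤ d0 ∨ (1 ≤ d1 ∧ 1 ≤ d2) := by
  by_contra hc
  push Not at hc
  obtain ⟨h0, h12⟩ := hc
  have h0' : (d0 : ℤ) < (q : ℤ) - p := by omega
  rcases Nat.eq_zero_or_pos d1 with rfl | hd1
  · rcases Nat.eq_zero_or_pos d2 with rfl | hd2
    · simp at h; omega
    · have : (q : ℤ) ≤ (q : ℤ) * d2 := le_mul_of_one_le_right (Int.natCast_nonneg q) (by omega)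
      push_cast at h
      linarith [Int.natCast_nonneg d0, show (0 : ℤ) < p by omega]
  · obtain rfl : d2 = 0 := by have := h12 hd1; omega
    push_cast at h
    linarith [mul_nonneg (Int.natCast_nonneg p) (Int.natCast_nonneg d1)]

end Three

section Five

variable {k : Type u} [Field k] (p q m : ℕ)

theorem mono5 (d : Fin 5 →₀ ℕ) :
    monomial d (1 : k) = X 0 ^ d 0 * X 1 ^ d 1 * X 2 ^ d 2 * X 3 ^ d 3 * X 4 ^ d 4 := by
  rw [monomial_eq, Finsupp.prod_fintype _ _ (fun i => pow_zero _), Fin.prod_univ_five, map_one, one_mul]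

theorem monomial5 (d : Fin 5 →₀ ℕ) (x : k) :
    monomial d x = C x * (X 0 ^ d 0 * X 1 ^ d 1 * X 2 ^ d 2 * X 3 ^ d 3 * X 4 ^ d 4) := by
  conv_lhs => rw [← mul_one x, ← C_mul_monomial, mono5]

theorem weight5 (d : Fin 5 →₀ ℕ) : Finsupp.weight (W4c2invhilbsl2.wt5 p q m) d =
    ((d 0 : ℤ) - (p : ℤ) * (d 1 + d 2) + (q : ℤ) * (d 3 + d 4),
      ((((d 3 : ℤ) + d 4) - (d 1 + d 2) : ℤ) : ZMod m)) := by
  rw [Finsupp.weight_apply, Finsupp.sum_fintype _ _ (fun i => by simp), Fin.sum_univ_five]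
  simp [W4c2invhilbsl2.wt5, Prod.ext_iff]
  constructor <;> ring

theorem weight5_eq_iff (d : Fin 5 →₀ ℕ) (n C : ℤ) :
    Finsupp.weight (W4c2invhilbsl2.wt5 p q m) d = (n, ((-C : ℤ) : ZMod m)) ↔
      (d 0 : ℤ) - (p : ℤ) * (d 1 + d 2) + (q : ℤ) * (d 3 + d 4) = n ∧
        (m : ℤ) ∣ (((d 1 : ℤ) + d 2) - (d 3 + d 4)) - C := by
  rw [weight5, Prod.mk.injEq, ZMod.intCast_eq_intCast_iff_dvd_sub]
  rw [show -C - (((d 3 : ℤ) + d 4) - (d 1 + d 2)) = ((d 1 : ℤ) + d 2) - (d 3 + d 4) - C by ring]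

theorem weight5_zero_iff (d : Fin 5 →₀ ℕ) :
    Finsupp.weight (W4c2invhilbsl2.wt5 p q m) d = 0 ↔
      (d 0 : ℤ) - (p : ℤ) * (d 1 + d 2) + (q : ℤ) * (d 3 + d 4) = 0 ∧
        (m : ℤ) ∣ (((d 1 : ℤ) + d 2) - (d 3 + d 4)) := by
  have := weight5_eq_iff p q m d 0 0
  simpa [Prod.mk_zero_zero] using this

theorem weight5_congr {d e : Fin 5 →₀ ℕ}
    (h : Finsupp.weight (W4c2invhilbsl2.wt5 p q m) d = Finsupp.weight (W4c2invhilbsl2.wt5 p q m) e) :
    (d 0 : ℤ) - (p : ℤ) * (d 1 + d 2) + (q : ℤ) * (d 3 + d 4) =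
        (e 0 : ℤ) - (p : ℤ) * (e 1 + e 2) + (q : ℤ) * (e 3 + e 4) ∧
      (m : ℤ) ∣ (((d 1 : ℤ) + d 2) - (d 3 + d 4)) - (((e 1 : ℤ) + e 2) - (e 3 + e 4)) := by
  rw [weight5 p q m e, show ((e 3 : ℤ) + e 4) - (e 1 + e 2) = -(((e 1 : ℤ) + e 2) - (e 3 + e 4)) by ring,
    weight5_eq_iff] at h
  exact h

/-- The exponent vector `(a, b, c, d, e)`. -/
noncomputable def mk5 (a b c d e : ℕ) : Fin 5 →₀ ℕ := Finsupp.equivFunOnFinite.symm ![a, b, c, d, e]

@[simp] theorem mk5_zero (a b c d e : ℕ) : mk5 a b c d e 0 = a := rfl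
@[simp] theorem mk5_one (a b c d e : ℕ) : mk5 a b c d e 1 = b := rfl
@[simp] theorem mk5_two (a b c d e : ℕ) : mk5 a b c d e 2 = c := rfl
@[simp] theorem mk5_three (a b c d e : ℕ) : mk5 a b c d e 3 = d := rfl
@[simp] theorem mk5_four (a b c d e : ℕ) : mk5 a b c d e 4 = e := rfl

/-- The hypersurface ideal. -/
noncomputable def hyp : Ideal (MvPolynomial (Fin 5) k) :=
  Ideal.span {X (0 : Fin 5) ^ (q - p) - X 1 * X 4 + X 2 * X 3}

/-- Weight zero. -/
noncomputable abbrev W0 : Submodule k (MvPolynomial (Fin 5) k) :=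
  weightedHomogeneousSubmodule k (W4c2invhilbsl2.wt5 p q m) 0

theorem hom5_zero (a b c d e : ℕ) (x : k) (hn : (a : ℤ) - (p : ℤ) * (b + c) + (q : ℤ) * (d + e) = 0)
    (hd : (m : ℤ) ∣ (((b : ℤ) + c) - (d + e))) :
    C x * (X 0 ^ a * X 1 ^ b * X 2 ^ c * X 3 ^ d * X 4 ^ e) ∈ W0 (k := k) p q m := by
  have h : monomial (mk5 a b c d e) x ∈ W0 (k := k) p q m :=
    isWeightedHomogeneous_monomial _ _ _ ((weight5_zero_iff p q m _).2 ⟨by simpa using hn, by simpa using hd⟩)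
  rw [monomial5] at h
  simpa using h

/-- Weight of `X₁`. -/
theorem decomp_X1 (hp : 0 < p) (f : MvPolynomial (Fin 5) k)
    (hf : f ∈ weightedHomogeneousSubmodule k (W4c2invhilbsl2.wt5 p q m) (W4c2invhilbsl2.wt5 p q m 1)) :
    ∃ a b : MvPolynomial (Fin 5) k, a ∈ W0 p q m ∧ b ∈ W0 p q m ∧ f - (a * X 1 + b * X 2) ∈ hyp p q := by
  refine homog_induction (P := fun g => ∃ a b : MvPolynomial (Fin 5) k, a ∈ W0 p q m ∧ b ∈ W0 p q m ∧ g - (a * X 1 + b * X 2) ∈ hyp p q) hf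
    ⟨0, 0, zero_mem _, zero_mem _, by simp⟩ ?_ ?_
  · rintro g g' ⟨a, b, ha, hb, h⟩ ⟨a', b', ha', hb', h'⟩
    refine ⟨a + a', b + b', add_mem ha ha', add_mem hb hb', ?_⟩
    convert add_mem h h' using 1
    ring
  · intro d x hd
    have hd' : Finsupp.weight (W4c2invhilbsl2.wt5 p q m) d = (-(p : ℤ), ((-1 : ℤ) : ZMod m)) := by
      rw [hd]; simp [W4c2invhilbsl2.wt5]
    obtain ⟨h1, h2⟩ := (weight5_eq_iff p q m d _ _).1 hd'
    rcases Nat.eq_zero_or_pos (d 1) with h | h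
    · have h2pos : 1 ≤ d 2 := by
        by_contra h0
        rw [h, show d 2 = 0 by omega] at h1
        push_cast at h1
        have := mul_nonneg (Int.natCast_nonneg q) (add_nonneg (Int.natCast_nonneg (d 3)) (Int.natCast_nonneg (d 4)))
        linarith [Int.natCast_nonneg (d 0), show (0 : ℤ) < p by omega]
      refine ⟨0, _, zero_mem _, hom5_zero p q m (d 0) (d 1) (d 2 - 1) (d 3) (d 4) x ?_ ?_, ?_⟩
      · push_cast [Nat.cast_sub h2pos]; linarith
      · convert h2 using 1; push_cast [Nat.cast_sub h2pos]; ring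
      · convert zero_mem (hyp (k := k) p q) using 1
        rw [monomial5, sub_eq_zero]
        conv_lhs => rw [← Nat.sub_add_cancel h2pos, pow_succ]
        ring
    · refine ⟨_, 0, hom5_zero p q m (d 0) (d 1 - 1) (d 2) (d 3) (d 4) x ?_ ?_, zero_mem _, ?_⟩
      · push_cast [Nat.cast_sub h]; linarith
      · convert h2 using 1; push_cast [Nat.cast_sub h]; ring
      · convert zero_mem (hyp (k := k) p q) using 1
        rw [monomial5, sub_eq_zero]
        conv_lhs => rw [← Nat.sub_add_cancel h, pow_succ]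
        ring

/-- Weight of `X₃`. -/
theorem decomp_X3 (hp : 0 < p) (hpq : p < q) (f : MvPolynomial (Fin 5) k)
    (hf : f ∈ weightedHomogeneousSubmodule k (W4c2invhilbsl2.wt5 p q m) (W4c2invhilbsl2.wt5 p q m 3)) :
    ∃ a b : MvPolynomial (Fin 5) k, a ∈ W0 p q m ∧ b ∈ W0 p q m ∧ f - (a * X 3 + b * X 4) ∈ hyp p q := by
  refine homog_induction (P := fun g => ∃ a b : MvPolynomial (Fin 5) k, a ∈ W0 p q m ∧ b ∈ W0 p q m ∧ g - (a * X 3 + b * X 4) ∈ hyp p q) hf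
    ⟨0, 0, zero_mem _, zero_mem _, by simp⟩ ?_ ?_
  · rintro g g' ⟨a, b, ha, hb, h⟩ ⟨a', b', ha', hb', h'⟩
    refine ⟨a + a', b + b', add_mem ha ha', add_mem hb hb', ?_⟩
    convert add_mem h h' using 1
    ring
  · intro d x hd
    have hd' : Finsupp.weight (W4c2invhilbsl2.wt5 p q m) d = ((q : ℤ), ((-(-1) : ℤ) : ZMod m)) := by
      rw [hd]; simp [W4c2invhilbsl2.wt5]
    obtain ⟨h1, h2⟩ := (weight5_eq_iff p q m d _ _).1 hd'
    by_cases h3 : 1 ≤ d 3
    · refine ⟨_, 0, hom5_zero p q m (d 0) (d 1) (d 2) (d 3 - 1) (d 4) x ?_ ?_, zero_mem _, ?_⟩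
      · push_cast [Nat.cast_sub h3]; linarith
      · convert h2 using 1; push_cast [Nat.cast_sub h3]; ring
      · convert zero_mem (hyp (k := k) p q) using 1
        rw [monomial5, sub_eq_zero]
        conv_lhs => rw [← Nat.sub_add_cancel h3, pow_succ]
        ring
    by_cases h4 : 1 ≤ d 4
    · refine ⟨0, _, zero_mem _, hom5_zero p q m (d 0) (d 1) (d 2) (d 3) (d 4 - 1) x ?_ ?_, ?_⟩
      · push_cast [Nat.cast_sub h4]; linarith
      · convert h2 using 1; push_cast [Nat.cast_sub h4]; ring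
      · convert zero_mem (hyp (k := k) p q) using 1
        rw [monomial5, sub_eq_zero]
        conv_lhs => rw [← Nat.sub_add_cancel h4, pow_succ]
        ring
    rw [show d 3 = 0 by omega, show d 4 = 0 by omega] at h1 h2
    push_cast at h1 h2
    have h0 : q - p ≤ d 0 := by
      have := mul_nonneg (Int.natCast_nonneg p) (add_nonneg (Int.natCast_nonneg (d 1)) (Int.natCast_nonneg (d 2)))
      omega
    refine ⟨_, _, hom5_zero p q m (d 0 - (q - p)) (d 1) (d 2 + 1) 0 0 (-x) ?_ ?_,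
      hom5_zero p q m (d 0 - (q - p)) (d 1 + 1) (d 2) 0 0 x ?_ ?_, ?_⟩
    · push_cast [Nat.cast_sub h0, Nat.cast_sub hpq.le]; linarith
    · convert h2 using 1; push_cast; ring
    · push_cast [Nat.cast_sub h0, Nat.cast_sub hpq.le]; linarith
    · convert h2 using 1; push_cast; ring
    refine Ideal.mem_span_singleton.2 ⟨C x * (X 0 ^ (d 0 - (q - p)) * X 1 ^ d 1 * X 2 ^ d 2), ?_⟩
    rw [monomial5, show d 3 = 0 by omega, show d 4 = 0 by omega, map_neg]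
    obtain ⟨z, hz⟩ := Nat.exists_eq_add_of_le h0
    rw [hz, Nat.add_sub_cancel_left, pow_add]
    ring

/-- Weight `(q - p, 0)`. -/
theorem decomp_qp (hp : 0 < p) (hpq : p < q) (f : MvPolynomial (Fin 5) k)
    (hf : f ∈ weightedHomogeneousSubmodule k (W4c2invhilbsl2.wt5 p q m) ((q : ℤ) - (p : ℤ), (0 : ZMod m))) :
    ∃ a₁₃ a₁₄ a₂₃ a₂₄ : MvPolynomial (Fin 5) k, a₁₃ ∈ W0 p q m ∧ a₁₄ ∈ W0 p q m ∧ a₂₃ ∈ W0 p q m ∧ a₂₄ ∈ W0 p q m ∧
      f - (a₁₃ * (X 1 * X 3) + a₁₄ * (X 1 * X 4) + a₂₃ * (X 2 * X 3) + a₂₄ * (X 2 * X 4)) ∈ hyp p q := by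
  refine homog_induction
    (P := fun g => ∃ a b c e : MvPolynomial (Fin 5) k, a ∈ W0 p q m ∧ b ∈ W0 p q m ∧ c ∈ W0 p q m ∧ e ∈ W0 p q m ∧
      g - (a * (X 1 * X 3) + b * (X 1 * X 4) + c * (X 2 * X 3) + e * (X 2 * X 4)) ∈ hyp p q) hf
    ⟨0, 0, 0, 0, zero_mem _, zero_mem _, zero_mem _, zero_mem _, by simp⟩ ?_ ?_
  · rintro g g' ⟨a, b, c, e, ha, hb, hc, he, h⟩ ⟨a', b', c', e', ha', hb', hc', he', h'⟩
    refine ⟨a + a', b + b', c + c', e + e', add_mem ha ha', add_mem hb hb', add_mem hc hc', add_mem he he', ?_⟩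
    convert add_mem h h' using 1
    ring
  · intro d x hd
    have hd' : Finsupp.weight (W4c2invhilbsl2.wt5 p q m) d = ((q : ℤ) - p, ((-0 : ℤ) : ZMod m)) := by rw [hd]; simp
    obtain ⟨h1, h2⟩ := (weight5_eq_iff p q m d _ _).1 hd'
    rw [sub_zero] at h2
    rcases dich_qp p q hpq hp (d 0) (d 1 + d 2) (d 3 + d 4) (by push_cast; linarith) with h0 | ⟨ha, hb⟩
    · have hn : (((d 0 - (q - p) : ℕ) : ℤ)) - (p : ℤ) * (d 1 + d 2) + (q : ℤ) * (d 3 + d 4) = 0 := by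
        push_cast [Nat.cast_sub h0, Nat.cast_sub hpq.le]; linarith
      refine ⟨0, _, _, 0, zero_mem _, hom5_zero p q m _ _ _ _ _ x hn h2,
        hom5_zero p q m _ _ _ _ _ (-x) hn h2, zero_mem _, ?_⟩
      refine Ideal.mem_span_singleton.2 ⟨C x * (X 0 ^ (d 0 - (q - p)) * X 1 ^ d 1 * X 2 ^ d 2 * X 3 ^ d 3 * X 4 ^ d 4), ?_⟩
      rw [monomial5, map_neg]
      obtain ⟨z, hz⟩ := Nat.exists_eq_add_of_le h0
      rw [hz, Nat.add_sub_cancel_left, pow_add]
      ring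
    · have hz : (0 : MvPolynomial (Fin 5) k) ∈ hyp p q := zero_mem _
      by_cases h1' : 1 ≤ d 1 <;> by_cases h3' : 1 ≤ d 3
      · refine ⟨_, 0, 0, 0, hom5_zero p q m (d 0) (d 1 - 1) (d 2) (d 3 - 1) (d 4) x ?_ ?_, zero_mem _, zero_mem _, zero_mem _, ?_⟩
        · push_cast [Nat.cast_sub h1', Nat.cast_sub h3']; linarith
        · convert h2 using 1; push_cast [Nat.cast_sub h1', Nat.cast_sub h3']; ring
        · convert hz using 1
          rw [monomial5, sub_eq_zero]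
          conv_lhs => rw [← Nat.sub_add_cancel h1', ← Nat.sub_add_cancel h3', pow_succ, pow_succ]
          ring
      · have h4' : 1 ≤ d 4 := by omega
        refine ⟨0, _, 0, 0, zero_mem _, hom5_zero p q m (d 0) (d 1 - 1) (d 2) (d 3) (d 4 - 1) x ?_ ?_, zero_mem _, zero_mem _, ?_⟩
        · push_cast [Nat.cast_sub h1', Nat.cast_sub h4']; linarith
        · convert h2 using 1; push_cast [Nat.cast_sub h1', Nat.cast_sub h4']; ring
        · convert hz using 1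
          rw [monomial5, sub_eq_zero]
          conv_lhs => rw [← Nat.sub_add_cancel h1', ← Nat.sub_add_cancel h4', pow_succ, pow_succ]
          ring
      · have h2' : 1 ≤ d 2 := by omega
        refine ⟨0, 0, _, 0, zero_mem _, zero_mem _, hom5_zero p q m (d 0) (d 1) (d 2 - 1) (d 3 - 1) (d 4) x ?_ ?_, zero_mem _, ?_⟩
        · push_cast [Nat.cast_sub h2', Nat.cast_sub h3']; linarith
        · convert h2 using 1; push_cast [Nat.cast_sub h2', Nat.cast_sub h3']; ring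
        · convert hz using 1
          rw [monomial5, sub_eq_zero]
          conv_lhs => rw [← Nat.sub_add_cancel h2', ← Nat.sub_add_cancel h3', pow_succ, pow_succ]
          ring
      · have h2' : 1 ≤ d 2 := by omega
        have h4' : 1 ≤ d 4 := by omega
        refine ⟨0, 0, 0, _, zero_mem _, zero_mem _, zero_mem _, hom5_zero p q m (d 0) (d 1) (d 2 - 1) (d 3) (d 4 - 1) x ?_ ?_, ?_⟩
        · push_cast [Nat.cast_sub h2', Nat.cast_sub h4']; linarith
        · convert h2 using 1; push_cast [Nat.cast_sub h2', Nat.cast_sub h4']; ring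
        · convert hz using 1
          rw [monomial5, sub_eq_zero]
          conv_lhs => rw [← Nat.sub_add_cancel h2', ← Nat.sub_add_cancel h4', pow_succ, pow_succ]
          ring

theorem rank_idealI (hpq : p < q) (hm : 0 < m) (s : k) (ν : ℤ × ZMod m) :
    Module.rank k (W4c2invhilbsl2.piece k (W4c2invhilbsl2.wt5 p q m) (W4c2invhilbsl2.idealI k p q m s) ν) ≤ 1 := by
  refine rank_piece_le_one _ _ _ fun d e hd he => ?_
  set I := W4c2invhilbsl2.idealI k p q m s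
  let π := Ideal.Quotient.mk I
  have hX2 : π (X 2) = 0 := Ideal.Quotient.eq_zero_iff_mem.2 (Ideal.subset_span (by simp))
  have hX3 : π (X 3) = 0 := Ideal.Quotient.eq_zero_iff_mem.2 (Ideal.subset_span (by simp))
  have hg : π (X 0 ^ (q - p) - X 1 * X 4) = 0 := Ideal.Quotient.eq_zero_iff_mem.2 (Ideal.subset_span (by simp))
  have hu : π (X 0 ^ (m * p) * X 1 ^ m) = π (C s) :=
    (Ideal.Quotient.eq.2 (Ideal.subset_span (by simp))).symm
  have hzero : ∀ d : Fin 5 →₀ ℕ, (d 2 ≠ 0 ∨ d 3 ≠ 0) → monomial d (1 : k) ∈ I := by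
    intro d hd
    rw [← Ideal.Quotient.eq_zero_iff_mem, mono5]
    rcases hd with h | h <;> simp [π] at hX2 hX3 ⊢ <;> simp [hX2, hX3, zero_pow h]
  by_cases hd23 : d 2 ≠ 0 ∨ d 3 ≠ 0
  · exact Or.inl (hzero d hd23)
  by_cases he23 : e 2 ≠ 0 ∨ e 3 ≠ 0
  · exact Or.inr (Or.inl (hzero e he23))
  push Not at hd23 he23
  obtain ⟨hn, hc⟩ := weight5_congr p q m (hd.trans he.symm)
  rw [hd23.1, hd23.2, he23.1, he23.2] at hn hc
  push_cast at hn hc
  simp only [add_zero, zero_add] at hn hc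
  let F := π.comp (MvPolynomial.rename (R := k) ![(0 : Fin 5), 1, 4]).toRingHom
  have hF : ∀ a b c, F (MonoWeight.M k a b c) = π (X 0 ^ a * X 1 ^ b * X 4 ^ c) := by
    intro a b c
    simp [F, MonoWeight.M]
  have hd5 : π (monomial d 1) = F (MonoWeight.M k (d 0) (d 1) (d 4)) := by
    rw [hF, mono5, hd23.1, hd23.2]; simp
  have he5 : π (monomial e 1) = F (MonoWeight.M k (e 0) (e 1) (e 4)) := by
    rw [hF, mono5, he23.1, he23.2]; simp
  have hsame : ∀ a0 a1 a2 b0 b1 b2 : ℕ,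
      (b0 : ℤ) - (p : ℤ) * b1 + (q : ℤ) * b2 = (a0 : ℤ) - (p : ℤ) * a1 + (q : ℤ) * a2 →
      (a1 : ℤ) - a2 = (b1 : ℤ) - b2 → F (MonoWeight.M k a0 a1 a2) = F (MonoWeight.M k b0 b1 b2) := by
    intro a0 a1 a2 b0 b1 b2 h1 h2
    obtain ⟨r, hr⟩ := Ideal.mem_span_singleton.1 (MonoWeight.M_sub_mem (k := k) p q hpq.le a0 a1 a2 b0 b1 b2 h1 h2)
    have : F (MonoWeight.M k a0 a1 a2 - MonoWeight.M k b0 b1 b2) = 0 := by
      rw [hr, map_mul]
      simp [F] at hg ⊢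
      simp [π] at hg ⊢
      simp [hg]
    rwa [map_sub, sub_eq_zero] at this
  have hpow : ∀ a0 a1 a2 b0 b1 b2 : ℕ, ∀ z : ℕ,
      (b0 : ℤ) - (p : ℤ) * b1 + (q : ℤ) * b2 = (a0 : ℤ) - (p : ℤ) * a1 + (q : ℤ) * a2 →
      ((a1 : ℤ) - a2) - ((b1 : ℤ) - b2) = (m : ℤ) * z →
      F (MonoWeight.M k a0 a1 a2) = π (C (s ^ z)) * F (MonoWeight.M k b0 b1 b2) := by
    intro a0 a1 a2 b0 b1 b2 z h1 h2
    rw [hsame a0 a1 a2 (b0 + m * p * z) (b1 + m * z) b2 (by push_cast; linear_combination h1)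
      (by push_cast; linear_combination h2), MonoWeight.M_shift, map_mul, map_pow, map_pow, map_pow π, ← hu]
    simp [F]
  obtain ⟨z, hz⟩ := hc
  obtain ⟨t, rfl | rfl⟩ := z.eq_nat_or_neg
  · refine Or.inr (Or.inr ⟨s ^ t, ?_⟩)
    rw [← Ideal.Quotient.eq, map_mul]
    exact (hd5.trans (hpow _ _ _ _ _ _ t hn.symm hz)).trans (by rw [← he5])
  · by_cases hs : π (C (s ^ t)) = 0
    · refine Or.inr (Or.inl (Ideal.Quotient.eq_zero_iff_mem.1 ?_))
      have := hpow (e 0) (e 1) (e 4) (d 0) (d 1) (d 4) t hn (by linear_combination -hz)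
      rw [hs, zero_mul] at this
      exact he5.trans this
    · refine Or.inr (Or.inr ⟨(s ^ t)⁻¹, ?_⟩)
      have hst : s ^ t ≠ 0 := fun h => hs (by rw [h, map_zero, map_zero])
      rw [← Ideal.Quotient.eq, map_mul]
      rw [show Ideal.Quotient.mk I (monomial e 1) = π (C (s ^ t)) * π (monomial d 1) by
        rw [he5, hd5]; exact hpow (e 0) (e 1) (e 4) (d 0) (d 1) (d 4) t hn (by linear_combination -hz)]
      change π _ = π _ * (_ * π _)
      rw [← mul_assoc, ← map_mul π, ← map_mul C, inv_mul_cancel₀ hst, map_one C, map_one π, one_mul]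

theorem rank_idealJ (hpq : p < q) (hcop : Nat.Coprime p q) (hm : 0 < m) (s : k) (ν : ℤ × ZMod m) :
    Module.rank k (W4c2invhilbsl2.piece k (W4c2invhilbsl2.wt5 p q m) (W4c2invhilbsl2.idealJ k p q m s) ν) ≤ 1 := by
  refine rank_piece_le_one _ _ _ fun d e hd he => ?_
  set I := W4c2invhilbsl2.idealJ k p q m s
  let π := Ideal.Quotient.mk I
  have hX2 : π (X 2) = 0 := Ideal.Quotient.eq_zero_iff_mem.2 (Ideal.subset_span (by simp))
  have hX4 : π (X 4) = 0 := Ideal.Quotient.eq_zero_iff_mem.2 (Ideal.subset_span (by simp))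
  have hX0 : π (X 0 ^ Nat.gcd m (q - p)) = 0 := Ideal.Quotient.eq_zero_iff_mem.2 (Ideal.subset_span (by simp))
  set A := m / Nat.gcd m (q - p) * q with hA
  set B := m / Nat.gcd m (q - p) * p with hB
  have hu : π (X 1 ^ A * X 3 ^ B) = π (C s) := (Ideal.Quotient.eq.2 (Ideal.subset_span (by simp [A, B]))).symm
  have hzero : ∀ d : Fin 5 →₀ ℕ, (d 2 ≠ 0 ∨ d 4 ≠ 0 ∨ Nat.gcd m (q - p) ≤ d 0) → monomial d (1 : k) ∈ I := by
    intro d hd
    rw [← Ideal.Quotient.eq_zero_iff_mem, mono5]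
    change π _ = 0
    simp only [map_mul, map_pow] at hX0 ⊢
    rcases hd with h | h | h
    · simp [hX2, zero_pow h]
    · simp [hX4, zero_pow h]
    · rw [← Nat.add_sub_cancel' h, pow_add, hX0]; simp
  by_cases hd24 : d 2 ≠ 0 ∨ d 4 ≠ 0 ∨ Nat.gcd m (q - p) ≤ d 0
  · exact Or.inl (hzero d hd24)
  by_cases he24 : e 2 ≠ 0 ∨ e 4 ≠ 0 ∨ Nat.gcd m (q - p) ≤ e 0
  · exact Or.inr (Or.inl (hzero e he24))
  push Not at hd24 he24
  obtain ⟨hn, hc⟩ := weight5_congr p q m (hd.trans he.symm)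
  rw [hd24.1, hd24.2.1, he24.1, he24.2.1] at hn hc
  push_cast at hn hc
  simp only [add_zero, zero_add] at hn hc
  obtain ⟨h0, z, h1, h2, -⟩ := MonoWeight.congr_g p q m hpq hcop hm (d 0) (d 1) (d 3) (e 0) (e 1) (e 3) hn.symm hc
    hd24.2.2 he24.2.2
  rw [← hA] at h1
  rw [← hB] at h2
  have hpow : ∀ (a b c : Fin 5 →₀ ℕ) (t : ℕ), a 2 = 0 → a 4 = 0 → b 2 = 0 → b 4 = 0 → a 0 = b 0 →
      a 1 = b 1 + t * A → a 3 = b 3 + t * B → π (monomial a 1) = π (C (s ^ t)) * π (monomial b 1) := by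
    intro a b _ t ha2 ha4 hb2 hb4 e0 e1 e3
    rw [map_pow C, map_pow π, ← hu, mono5, mono5, ha2, ha4, hb2, hb4, e0, e1, e3]
    simp only [map_mul, map_pow, pow_add, mul_pow, ← pow_mul]
    rw [mul_comm t A, mul_comm t B]
    ring
  obtain ⟨t, rfl | rfl⟩ := z.eq_nat_or_neg
  · have := hpow e d e t he24.1 he24.2.1 hd24.1 hd24.2.1 h0.symm (by zify; linarith) (by zify; linarith)
    by_cases hs : π (C (s ^ t)) = 0
    · exact Or.inr (Or.inl (Ideal.Quotient.eq_zero_iff_mem.1 (by rw [hs, zero_mul] at this; exact this)))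
    · refine Or.inr (Or.inr ⟨(s ^ t)⁻¹, ?_⟩)
      have hst : s ^ t ≠ 0 := fun h => hs (by rw [h, map_zero, map_zero])
      rw [← Ideal.Quotient.eq, map_mul]
      rw [show Ideal.Quotient.mk I (monomial e 1) = π (C (s ^ t)) * π (monomial d 1) from this]
      change π _ = π _ * (_ * π _)
      rw [← mul_assoc, ← map_mul π, ← map_mul C, inv_mul_cancel₀ hst, map_one C, map_one π, one_mul]
  · refine Or.inr (Or.inr ⟨s ^ t, ?_⟩)
    rw [← Ideal.Quotient.eq, map_mul]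
    exact hpow d e d t hd24.1 hd24.2.1 he24.1 he24.2.1 h0 (by zify; linarith) (by zify; linarith)

end Five

end Groth.Agent.SmallAlg.HJWeight
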