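import Mathlib
import Groth.Agent.SmallAlg.HJWeight

/-!
# The integers `nᵢ` attached to Hirzebruch–Jung digits
-/

set_option autoImplicit false

universe u

open MvPolynomial

namespace Groth.Agent.SmallAlg.HJDigits

open W4c2invhilbsl2 Groth.Agent.SmallAlg.HJWeight

variable {p q m : ℕ} {c : List ℤ}

/-- The standing hypotheses. -/
structure Setup (p q m : ℕ) (c : List ℤ) : Prop where
  hp : 0 < p
  hpq : p < q
  hcop : Nat.Coprime p q
  hm : 0 < m
  hnt : ¬ (q - p ∣ m)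
  hc : IsHJDigits p q m c

/-- `tᵢ = t Pᵢ - b Qᵢ`. -/
def tau (p q m : ℕ) (c : List ℤ) (i : ℕ) : ℤ := (tT p q m : ℤ) * hjP c i - (bB p q m : ℤ) * hjQ c i

theorem tau_succ (i : ℕ) : tau p q m c (i + 2) = c.getD i 0 * tau p q m c (i + 1) - tau p q m c i := by
  simp only [tau, hjP, hjQ]; ring

theorem Setup.facts (S : Setup p q m c) :
    0 < gcdK p q m ∧ gcdK p q m * bB p q m = q - p ∧
      (gcdK p q m : ℤ) * tT p q m = ((alpha p q m + 1 : ℕ) : ℤ) * ((q : ℤ) - p) - (m : ℤ) * p ∧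
      0 < tT p q m ∧ tT p q m < bB p q m ∧ Nat.Coprime (bB p q m) (tT p q m) := by
  obtain ⟨hp, hpq, hcop, hm, hnt, -⟩ := S
  have hD : 0 < q - p := by omega
  have hg : 0 < gcdK p q m := Nat.gcd_pos_of_pos_left _ hm
  have hgb : gcdK p q m * bB p q m = q - p := Nat.mul_div_cancel' (Nat.gcd_dvd_right m (q - p))
  have hcopD : Nat.Coprime p (q - p) := by
    rw [Nat.coprime_sub_self_right hpq.le]; exact hcop
  have hgβ : gcdK p q m ∣ m * p % (q - p) :=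
    (Nat.dvd_mod_iff (Nat.gcd_dvd_right m (q - p))).2 ((Nat.gcd_dvd_left m (q - p)).mul_right p)
  have hgs : gcdK p q m ∣ q - p - m * p % (q - p) := Nat.dvd_sub (Nat.gcd_dvd_right m (q - p)) hgβ
  have hgt : gcdK p q m * tT p q m = q - p - m * p % (q - p) := Nat.mul_div_cancel' hgs
  have hβ : 0 < m * p % (q - p) := by
    by_contra h
    exact hnt (hcopD.symm.dvd_of_dvd_mul_right (Nat.dvd_of_mod_eq_zero (Nat.eq_zero_of_not_pos h)))
  have hlt := Nat.mod_lt (m * p) hD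
  have ht0 : 0 < tT p q m := by
    rcases Nat.eq_zero_or_pos (tT p q m) with h | h
    · rw [h, mul_zero] at hgt; omega
    · exact h
  have htb : tT p q m < bB p q m := Nat.lt_of_mul_lt_mul_left (a := gcdK p q m) (by omega)
  have heq : gcdK p q m * tT p q m + m * p = (alpha p q m + 1) * (q - p) := by
    have h1 : (q - p) * alpha p q m + m * p % (q - p) = m * p := Nat.div_add_mod (m * p) (q - p)
    rw [hgt, add_mul, one_mul, mul_comm (alpha p q m)]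
    omega
  refine ⟨hg, hgb, ?_, ht0, htb, ?_⟩
  · have := congrArg (Nat.cast : ℕ → ℤ) heq
    push_cast [Nat.cast_sub hpq.le] at this ⊢
    linarith
  · obtain ⟨a, ha⟩ : gcdK p q m ∣ m := Nat.gcd_dvd_left m (q - p)
    have hab : Nat.Coprime a (bB p q m) := by
      have : Nat.Coprime (m / gcdK p q m) ((q - p) / gcdK p q m) := Nat.coprime_div_gcd_div_gcd hg
      rw [Nat.div_eq_of_eq_mul_right hg ha] at this
      exact this
    have hdiv : bB p q m ∣ tT p q m + a * p := by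
      refine ⟨alpha p q m + 1, Nat.eq_of_mul_eq_mul_left hg ?_⟩
      rw [← mul_assoc (gcdK p q m) (bB p q m), hgb, mul_comm (q - p), ← heq, mul_add, ← mul_assoc, ← ha]
    refine Nat.coprime_of_dvd' fun r hr hrb hrt => ?_
    have hrap : r ∣ a * p := (Nat.dvd_add_right hrt).1 (hrb.trans hdiv)
    have hbp : Nat.Coprime (bB p q m) (a * p) :=
      Nat.Coprime.mul_right hab.symm (hcopD.coprime_dvd_right ⟨gcdK p q m, by rw [← hgb, mul_comm]⟩).symm
    exact hbp ▸ Nat.dvd_gcd hrb hrap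

theorem Setup.nd_eq (S : Setup p q m c) :
    (HJChain.nd c).1 = bB p q m ∧ (HJChain.nd c).2 = tT p q m := by
  obtain ⟨hg, hgb, -, ht0, htb, hcop⟩ := S.facts
  obtain ⟨h0, h1, hc, hv⟩ := HJChain.nd_spec c S.hc.1
  have hne : c ≠ [] := fun h => by
    have := S.hc.2
    rw [h, HJFrac.hjVal, eq_comm, div_eq_zero_iff] at this
    norm_cast at this
    omega
  obtain ⟨hD, e⟩ := hv hne
  have hv' := S.hc.2
  rw [e, div_eq_div_iff (Int.cast_ne_zero.2 hD.ne') (Nat.cast_ne_zero.2 ht0.ne')] at hv'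
  have e1 : (HJChain.nd c).1 * tT p q m = (bB p q m : ℤ) * (HJChain.nd c).2 := by exact_mod_cast hv'
  have hc' : IsCoprime (bB p q m : ℤ) (tT p q m : ℤ) := hcop.cast
  have d1 : (HJChain.nd c).2 ∣ (tT p q m : ℤ) := hc.symm.dvd_of_dvd_mul_left (Dvd.intro_left _ e1.symm)
  have d2 : (tT p q m : ℤ) ∣ (HJChain.nd c).2 := hc'.symm.dvd_of_dvd_mul_left (Dvd.intro_left _ e1)
  have h2 : (HJChain.nd c).2 = tT p q m := Int.dvd_antisymm hD.le (by positivity) d1 d2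
  rw [h2] at e1
  exact ⟨mul_right_cancel₀ (Nat.cast_ne_zero.2 ht0.ne') e1, h2⟩

theorem Setup.tau_drop (S : Setup p q m c) : ∀ i, i ≤ c.length →
    (HJChain.nd (c.drop i)).1 = tau p q m c i ∧ (HJChain.nd (c.drop i)).2 = tau p q m c (i + 1) := by
  intro i
  induction i with
  | zero => intro _; simp [tau, hjP, hjQ, S.nd_eq.1, S.nd_eq.2]
  | succ i ih =>
    intro hi
    obtain ⟨h1, h2⟩ := ih (by omega)
    rw [List.drop_eq_getElem_cons (by omega : i < c.length), HJChain.nd] at h1 h2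
    simp only at h1 h2
    refine ⟨h2, ?_⟩
    rw [tau_succ, List.getD_eq_getElem _ _ (by omega : i < c.length), ← h1, ← h2]
    ring

theorem Setup.tau_bounds (S : Setup p q m c) (i : ℕ) (hi : i ≤ c.length) :
    0 ≤ tau p q m c (i + 1) ∧ tau p q m c (i + 1) < tau p q m c i := by
  obtain ⟨h1, h2⟩ := S.tau_drop i hi
  obtain ⟨h0, hlt, -, -⟩ := HJChain.nd_spec (c.drop i) (fun x hx => S.hc.1 x (List.mem_of_mem_drop hx))
  rw [h1, h2] at hlt
  rw [h2] at h0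
  exact ⟨h0, hlt⟩

theorem Setup.tau_le (S : Setup p q m c) : ∀ i, i ≤ c.length + 1 → tau p q m c i ≤ bB p q m := by
  intro i
  induction i with
  | zero => intro _; simp [tau, hjP, hjQ]
  | succ i ih => exact fun hi => (S.tau_bounds i (by omega)).2.le.trans (ih (by omega))

theorem det (c : List ℤ) : ∀ i, hjP c i * hjQ c (i + 1) - hjP c (i + 1) * hjQ c i = 1
  | 0 => by simp [hjP, hjQ]
  | i + 1 => by
    rw [hjP, hjQ]
    linear_combination det c i

theorem Setup.P_lt (S : Setup p q m c) : ∀ i, i ≤ c.length → 0 ≤ hjP c i ∧ hjP c i < hjP c (i + 1) := by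
  intro i
  induction i with
  | zero => intro _; simp [hjP]
  | succ i ih =>
    intro hi
    obtain ⟨h0, h1⟩ := ih (by omega)
    refine ⟨by omega, ?_⟩
    have h2 : (2 : ℤ) ≤ c.getD i 0 := by
      rw [List.getD_eq_getElem _ _ (by omega : i < c.length)]
      exact S.hc.1 _ (List.getElem_mem _)
    rw [hjP]
    nlinarith

theorem Setup.nN_eq (S : Setup p q m c) (i : ℕ) : nN p q m c i = (gcdK p q m : ℤ) * tau p q m c i := by
  obtain ⟨-, hgb, hgt, -, -, -⟩ := S.facts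
  have h1 : (gcdK p q m : ℤ) * bB p q m = (q : ℤ) - p := by
    have := congrArg (Nat.cast : ℕ → ℤ) hgb
    push_cast [Nat.cast_sub S.hpq.le] at this
    exact this
  simp only [nN, eE, lL, tau]
  push_cast at hgt ⊢
  linear_combination -hjP c i * hgt + hjQ c i * h1

/-- Residues of `t x` for small `x`. -/
theorem Setup.tau_le_of_nonneg (S : Setup p q m c) (j : ℕ) (hj : j + 1 ≤ c.length + 1) (x y : ℤ) (hx0 : 0 < x)
    (hx : x < hjP c (j + 1)) (h : 0 ≤ (tT p q m : ℤ) * x - (bB p q m : ℤ) * y) :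
    tau p q m c j ≤ (tT p q m : ℤ) * x - (bB p q m : ℤ) * y := by
  obtain ⟨h0, h1⟩ := S.tau_bounds j (by omega)
  obtain ⟨hP0, hP1⟩ := S.P_lt j (by omega)
  obtain ⟨u, hu⟩ : ∃ u, u = hjQ c (j + 1) * x - hjP c (j + 1) * y := ⟨_, rfl⟩
  obtain ⟨v, hv⟩ : ∃ v, v = hjP c j * y - hjQ c j * x := ⟨_, rfl⟩
  have hd := det c j
  have hxe : x = u * hjP c j + v * hjP c (j + 1) := by rw [hu, hv]; linear_combination (-x) * hd
  have hte : (tT p q m : ℤ) * x - (bB p q m : ℤ) * y = u * tau p q m c j + v * tau p q m c (j + 1) := by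
    simp only [tau, hu, hv]
    linear_combination (-(tT p q m : ℤ) * x + (bB p q m : ℤ) * y) * hd
  rw [hte] at h ⊢
  rcases le_or_gt u 0 with hu0 | hu0
  · exfalso
    rcases le_or_gt v 0 with hv0 | hv0
    · nlinarith
    · have h2 : (v - 1) * hjP c (j + 1) < -u * hjP c j := by rw [sub_mul, one_mul]; linarith
      have h3 : -u * hjP c j ≤ -u * hjP c (j + 1) := mul_le_mul_of_nonneg_left hP1.le (by omega)
      have h4 : v - 1 < -u := lt_of_mul_lt_mul_right (h2.trans_le h3) (by omega)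
      nlinarith
  · rcases le_or_gt v 0 with hv0 | hv0
    · have h2 : -v * hjP c (j + 1) < u * hjP c j := by rw [neg_mul]; linarith
      have h3 : -v * hjP c j ≤ -v * hjP c (j + 1) := mul_le_mul_of_nonneg_left hP1.le (by omega)
      have h4 : -v < u := lt_of_mul_lt_mul_right (h3.trans_lt h2) hP0
      nlinarith
    · exfalso; nlinarith

theorem Setup.residue (S : Setup p q m c) (j : ℕ) (hj : j + 1 ≤ c.length + 1) (x : ℤ) (hx0 : 0 < x)
    (hx : x < hjP c (j + 1)) :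
    tau p q m c j ≤ ((tT p q m : ℤ) * x) % (bB p q m : ℤ) ∧
      ((tT p q m : ℤ) * x) % (bB p q m : ℤ) ≤ (bB p q m : ℤ) + tau p q m c (j + 1) - tau p q m c j := by
  obtain ⟨-, -, -, ht0, htb, -⟩ := S.facts
  have hb : (0 : ℤ) < bB p q m := by omega
  have h1 := Int.emod_nonneg ((tT p q m : ℤ) * x) hb.ne'
  have h2 := Int.emod_lt_of_pos ((tT p q m : ℤ) * x) hb
  have h3 := Int.emod_add_mul_ediv ((tT p q m : ℤ) * x) (bB p q m : ℤ)
  set r := ((tT p q m : ℤ) * x) % (bB p q m : ℤ)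
  set y := ((tT p q m : ℤ) * x) / (bB p q m : ℤ)
  have hA := S.tau_le_of_nonneg j hj x y hx0 hx (by linarith)
  obtain ⟨h0, h1'⟩ := S.tau_bounds j (by omega)
  have e : (tT p q m : ℤ) * (hjP c (j + 1) - x) - (bB p q m : ℤ) * (hjQ c (j + 1) - y - 1) =
      tau p q m c (j + 1) - r + bB p q m := by
    simp only [tau]; linear_combination h3
  have hB := S.tau_le_of_nonneg j hj (hjP c (j + 1) - x) (hjQ c (j + 1) - y - 1) (by linarith) (by linarith)
    (by rw [e]; linarith)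
  rw [e] at hB
  exact ⟨by linarith, by linarith⟩

theorem Setup.pmx (S : Setup p q m c) (x : ℤ) :
    ∃ K : ℤ, (p : ℤ) * m * x = ((q : ℤ) - p) * K +
      (gcdK p q m : ℤ) * ((bB p q m : ℤ) - ((tT p q m : ℤ) * x) % (bB p q m : ℤ)) := by
  obtain ⟨-, hgb, hgt, -, -, -⟩ := S.facts
  have h1 : (gcdK p q m : ℤ) * bB p q m = (q : ℤ) - p := by
    have := congrArg (Nat.cast : ℕ → ℤ) hgb
    push_cast [Nat.cast_sub S.hpq.le] at this
    exact this
  refine ⟨((alpha p q m + 1 : ℕ) : ℤ) * x - ((tT p q m : ℤ) * x) / (bB p q m : ℤ) - 1, ?_⟩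
  have h3 := Int.emod_add_mul_ediv ((tT p q m : ℤ) * x) (bB p q m : ℤ)
  linear_combination x * hgt + (gcdK p q m : ℤ) * h3 - (1 + ((tT p q m : ℤ) * x) / (bB p q m : ℤ)) * h1

theorem Setup.emod_eq (S : Setup p q m c) (j : ℕ) (hj : j + 1 ≤ c.length) (x : ℤ) (hx0 : 0 < x)
    (hx : x < hjP c (j + 1)) :
    Int.emod ((p : ℤ) * m * x + nN p q m c (j + 1)) ((q : ℤ) - p) =
      nN p q m c (j + 1) + Int.emod ((p : ℤ) * m * x) ((q : ℤ) - p) := by
  obtain ⟨hg, hgb, -, -, -, -⟩ := S.facts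
  have h1 : (gcdK p q m : ℤ) * bB p q m = (q : ℤ) - p := by
    have := congrArg (Nat.cast : ℕ → ℤ) hgb
    push_cast [Nat.cast_sub S.hpq.le] at this
    exact this
  obtain ⟨K, hK⟩ := S.pmx x
  obtain ⟨hlo, hhi⟩ := S.residue j (by omega) x hx0 hx
  obtain ⟨h0, hlt⟩ := S.tau_bounds j (by omega)
  have hg' : (0 : ℤ) < gcdK p q m := by omega
  change ((p : ℤ) * m * x + nN p q m c (j + 1)) % _ = _ + ((p : ℤ) * m * x) % _
  rw [hK, add_assoc, Int.mul_add_emod_self_left, Int.mul_add_emod_self_left, S.nN_eq]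
  set r := ((tT p q m : ℤ) * x) % (bB p q m : ℤ)
  have hr1 : 0 ≤ (gcdK p q m : ℤ) * ((bB p q m : ℤ) - r) := by nlinarith
  have hr2 : (gcdK p q m : ℤ) * ((bB p q m : ℤ) - r) + (gcdK p q m : ℤ) * tau p q m c (j + 1) < (q : ℤ) - p := by
    rw [← h1, ← mul_add]; exact mul_lt_mul_of_pos_left (by linarith) hg'
  have hr3 : 0 ≤ (gcdK p q m : ℤ) * tau p q m c (j + 1) := mul_nonneg hg'.le h0
  rw [Int.emod_eq_of_lt (by linarith) hr2, Int.emod_eq_of_lt hr1 (by linarith), add_comm]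

theorem Setup.parts (S : Setup p q m c) :
    (∀ i : ℕ, i ≤ c.length + 1 → nN p q m c i = (gcdK p q m : ℤ) * ((tT p q m : ℤ) * hjP c i - (bB p q m : ℤ) * hjQ c i)) ∧
    (∀ i : ℕ, 2 ≤ i → i ≤ c.length + 1 → nN p q m c i = c.getD (i - 2) 0 * nN p q m c (i - 1) - nN p q m c (i - 2)) ∧
    (∀ i : ℕ, i ≤ c.length → nN p q m c (i + 1) < nN p q m c i) ∧
    nN p q m c 0 = (q : ℤ) - p ∧ nN p q m c c.length = gcdK p q m ∧ nN p q m c (c.length + 1) = 0 := by
  obtain ⟨hg, hgb, -, -, -, -⟩ := S.facts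
  obtain ⟨e1, e2⟩ := S.tau_drop c.length le_rfl
  rw [List.drop_length, HJChain.nd] at e1 e2
  refine ⟨fun i _ => S.nN_eq i, fun i hi _ => ?_, fun i hi => ?_, ?_, ?_, ?_⟩
  · obtain ⟨j, rfl⟩ := Nat.exists_eq_add_of_le hi
    rw [show 2 + j = j + 2 by omega, show j + 2 - 2 = j by omega, show j + 2 - 1 = j + 1 by omega, S.nN_eq, S.nN_eq, S.nN_eq, tau_succ]
    ring
  · rw [S.nN_eq, S.nN_eq]
    exact mul_lt_mul_of_pos_left (S.tau_bounds i hi).2 (by omega)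
  · have := congrArg (Nat.cast : ℕ → ℤ) hgb
    push_cast [Nat.cast_sub S.hpq.le] at this
    rw [S.nN_eq]; simpa [tau, hjP, hjQ] using this
  · rw [S.nN_eq, ← e1]; simp
  · rw [S.nN_eq, ← e2]; simp

theorem Setup.tau_residue (S : Setup p q m c) :
    (∀ i : ℕ, 1 ≤ i → i ≤ c.length →
      Int.emod ((tT p q m : ℤ) * hjP c i) (bB p q m : ℤ) = nN p q m c i / (gcdK p q m : ℤ)) ∧
    (∀ i : ℕ, 1 < i → i ≤ c.length → ∀ x : ℤ, 0 < x → x < hjP c i →
      nN p q m c (i - 1) / (gcdK p q m : ℤ) ≤ Int.emod ((tT p q m : ℤ) * x) (bB p q m : ℤ) ∧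
      Int.emod ((tT p q m : ℤ) * x) (bB p q m : ℤ) ≤ (bB p q m : ℤ) + nN p q m c i / (gcdK p q m : ℤ) -
        nN p q m c (i - 1) / (gcdK p q m : ℤ)) := by
  obtain ⟨hg, -, -, -, -, -⟩ := S.facts
  have hdiv : ∀ i, nN p q m c i / (gcdK p q m : ℤ) = tau p q m c i := fun i => by
    rw [S.nN_eq, Int.mul_ediv_cancel_left _ (by omega)]
  simp only [hdiv]
  refine ⟨fun i hi hir => ?_, fun i hi hir x hx0 hx => ?_⟩
  · obtain ⟨j, rfl⟩ : ∃ j, i = j + 1 := ⟨i - 1, by omega⟩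
    obtain ⟨h0, hlt⟩ := S.tau_bounds j (by omega)
    change ((tT p q m : ℤ) * hjP c (j + 1)) % _ = _
    rw [show (tT p q m : ℤ) * hjP c (j + 1) = (bB p q m : ℤ) * hjQ c (j + 1) + tau p q m c (j + 1) by simp [tau],
      Int.mul_add_emod_self_left, Int.emod_eq_of_lt h0]
    exact hlt.trans_le (S.tau_le j (by omega))
  · obtain ⟨j, rfl⟩ : ∃ j, i = j + 1 := ⟨i - 1, by omega⟩
    exact S.residue j (by omega) x hx0 hx

theorem eE_eq (i : ℕ) : eE p q m c i = lL p q m c i + (m : ℤ) * hjP c i := by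
  simp only [eE, lL]; push_cast; ring

/-- Everything needed about the index `j + 1`. -/
theorem Setup.index (S : Setup p q m c) (j : ℕ) (hj : j + 1 ≤ c.length) :
    0 ≤ nN p q m c (j + 1) ∧ nN p q m c (j + 1) < nN p q m c j ∧ nN p q m c j ≤ (q : ℤ) - p ∧
      0 ≤ lL p q m c (j + 1) ∧ 0 ≤ eE p q m c (j + 1) ∧ 0 < hjP c (j + 1) ∧
      ((q : ℤ) - p) * lL p q m c (j + 1) = nN p q m c (j + 1) + (p : ℤ) * m * hjP c (j + 1) ∧
      ∀ x z : ℤ, 0 < x → x < hjP c (j + 1) →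
        ¬ (-nN p q m c j < (p : ℤ) * m * x - ((q : ℤ) - p) * z ∧ (p : ℤ) * m * x - ((q : ℤ) - p) * z < 0) := by
  obtain ⟨hg, hgb, -, -, -, -⟩ := S.facts
  have h1 : (gcdK p q m : ℤ) * bB p q m = (q : ℤ) - p := by
    have := congrArg (Nat.cast : ℕ → ℤ) hgb
    push_cast [Nat.cast_sub S.hpq.le] at this
    exact this
  obtain ⟨h0, hlt⟩ := S.tau_bounds j (by omega)
  obtain ⟨hP0, hP1⟩ := S.P_lt j (by omega)
  have hg' : (0 : ℤ) < gcdK p q m := by omega
  have hD : (0 : ℤ) < (q : ℤ) - p := by have := S.hpq; omega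
  have hn0 : 0 ≤ nN p q m c (j + 1) := by rw [S.nN_eq]; exact mul_nonneg hg'.le h0
  have hl : ((q : ℤ) - p) * lL p q m c (j + 1) = nN p q m c (j + 1) + (p : ℤ) * m * hjP c (j + 1) := by
    simp only [nN, eE, lL]; push_cast; ring
  have hpmP : 0 ≤ (p : ℤ) * m * hjP c (j + 1) := by
    have : (0 : ℤ) ≤ hjP c (j + 1) := by linarith
    positivity
  have hl0 : 0 ≤ lL p q m c (j + 1) := nonneg_of_mul_nonneg_right (by rw [hl]; linarith) hD
  refine ⟨hn0, ?_, ?_, hl0, ?_, by linarith, hl, ?_⟩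
  · rw [S.nN_eq, S.nN_eq]; exact mul_lt_mul_of_pos_left hlt hg'
  · rw [S.nN_eq, ← h1]; exact mul_le_mul_of_nonneg_left (S.tau_le j (by omega)) hg'.le
  · rw [eE_eq]
    exact add_nonneg hl0 (mul_nonneg (Int.natCast_nonneg m) (by linarith))
  · intro x z hx0 hx ⟨ha, hb⟩
    obtain ⟨K, hK⟩ := S.pmx x
    obtain ⟨hlo, hhi⟩ := S.residue j (by omega) x hx0 hx
    rw [S.nN_eq, hK] at ha
    rw [hK] at hb
    set r := ((tT p q m : ℤ) * x) % (bB p q m : ℤ)
    rcases le_or_gt z K with hz | hz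
    · nlinarith [mul_nonneg hD.le (sub_nonneg.2 hz)]
    · have hz1 : ((q : ℤ) - p) * (K + 1) ≤ ((q : ℤ) - p) * z := mul_le_mul_of_nonneg_left hz hD.le
      nlinarith [mul_le_mul_of_nonneg_left hlo hg'.le]

/-- The dichotomy for monomials of weight `(nᵢ, 0)`. -/
theorem Setup.dich (S : Setup p q m c) (i : ℕ) (hi : 1 ≤ i) (hir : i ≤ c.length) (d0 d1 d2 : ℕ)
    (hn : (d0 : ℤ) - (p : ℤ) * d1 + (q : ℤ) * d2 = nN p q m c i) (hd : (m : ℤ) ∣ ((d1 : ℤ) - d2)) :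
    (nN p q m c i).toNat ≤ d0 ∨ ((eE p q m c i).toNat ≤ d1 ∧ (lL p q m c i).toNat ≤ d2) := by
  obtain ⟨j, rfl⟩ : ∃ j, i = j + 1 := ⟨i - 1, by omega⟩
  obtain ⟨hn0, hlt, hle, hl0, he0, hP, hl, hgap⟩ := S.index j hir
  rcases le_or_gt (nN p q m c (j + 1)) (d0 : ℤ) with h | h
  · exact Or.inl (Int.toNat_le.2 h)
  refine Or.inr ?_
  obtain ⟨x, hx⟩ := hd
  have hD : (0 : ℤ) < (q : ℤ) - p := by have := S.hpq; omega
  have hδ : (p : ℤ) * m * x - ((q : ℤ) - p) * d2 = (d0 : ℤ) - nN p q m c (j + 1) := by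
    linear_combination -hn - (p : ℤ) * hx
  rcases le_or_gt x 0 with hx0 | hx0
  · exfalso
    have h1 : (p : ℤ) * m * x ≤ 0 := mul_nonpos_of_nonneg_of_nonpos (by positivity) hx0
    rcases Nat.eq_zero_or_pos d2 with rfl | hd2
    · have hx' : 0 ≤ (m : ℤ) * x := by push_cast at hx; linarith [Int.natCast_nonneg d1]
      have : 0 ≤ (p : ℤ) * m * x := by rw [mul_assoc]; exact mul_nonneg (Int.natCast_nonneg p) hx'
      push_cast at hδ; linarith
    · have : ((q : ℤ) - p) * 1 ≤ ((q : ℤ) - p) * d2 := mul_le_mul_of_nonneg_left (by omega) hD.le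
      linarith [Int.natCast_nonneg d0]
  rcases lt_or_ge x (hjP c (j + 1)) with hxP | hxP
  · exact absurd ⟨by rw [hδ]; linarith [Int.natCast_nonneg d0], by rw [hδ]; linarith⟩ (hgap x d2 hx0 hxP)
  · have h1 : (p : ℤ) * m * hjP c (j + 1) ≤ (p : ℤ) * m * x := mul_le_mul_of_nonneg_left hxP (by positivity)
    have h2 : lL p q m c (j + 1) < (d2 : ℤ) + 1 := lt_of_mul_lt_mul_left (a := (q : ℤ) - p)
      (by rw [hl, mul_add, mul_one]; linarith) hD.le
    have h2' : lL p q m c (j + 1) ≤ (d2 : ℤ) := by omega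
    have h3 : (m : ℤ) * hjP c (j + 1) ≤ (m : ℤ) * x := mul_le_mul_of_nonneg_left hxP (Int.natCast_nonneg m)
    exact ⟨Int.toNat_le.2 (by rw [eE_eq]; linarith), Int.toNat_le.2 h2'⟩

variable {k : Type u} [Field k]

theorem Setup.decomp (S : Setup p q m c) (i : ℕ) (hi : 1 ≤ i) (hir : i ≤ c.length) (f : MvPolynomial (Fin 3) k)
    (hf : f ∈ weightedHomogeneousSubmodule k (wt3 p q m) (nN p q m c i, (0 : ZMod m))) :
    ∃ a b : MvPolynomial (Fin 3) k, a ∈ weightedHomogeneousSubmodule k (wt3 p q m) 0 ∧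
      b ∈ weightedHomogeneousSubmodule k (wt3 p q m) 0 ∧
      f = a * X (0 : Fin 3) ^ (nN p q m c i).toNat +
        b * (X (1 : Fin 3) ^ (eE p q m c i).toNat * X (2 : Fin 3) ^ (lL p q m c i).toNat) := by
  obtain ⟨j, rfl⟩ : ∃ j, i = j + 1 := ⟨i - 1, by omega⟩
  obtain ⟨hn0, -, -, hl0, he0, -, -, -⟩ := S.index j hir
  exact decomp3 p q m _ _ _ _ (Int.toNat_of_nonneg hn0)
    (by rw [Int.toNat_of_nonneg hl0, Int.toNat_of_nonneg he0]; simp only [nN]; ring)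
    (by rw [Int.toNat_of_nonneg hl0, Int.toNat_of_nonneg he0, eE_eq]; exact ⟨hjP c (j + 1), by ring⟩)
    (S.dich (j + 1) hi hir) f hf

theorem Setup.decomp5 (S : Setup p q m c) (i : ℕ) (hi : 1 ≤ i) (hir : i ≤ c.length) (f : MvPolynomial (Fin 5) k)
    (hf : f ∈ weightedHomogeneousSubmodule k (wt5 p q m) (nN p q m c i, (0 : ZMod m))) :
    ∃ (a₀ : MvPolynomial (Fin 5) k) (a : ℕ → ℕ → MvPolynomial (Fin 5) k),
      a₀ ∈ weightedHomogeneousSubmodule k (wt5 p q m) 0 ∧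
      (∀ e l : ℕ, a e l ∈ weightedHomogeneousSubmodule k (wt5 p q m) 0) ∧
      f - (a₀ * X (0 : Fin 5) ^ (nN p q m c i).toNat +
        ∑ e ∈ Finset.range ((eE p q m c i).toNat + 1), ∑ l ∈ Finset.range ((lL p q m c i).toNat + 1),
          a e l * (X (1 : Fin 5) ^ ((eE p q m c i).toNat - e) * X (2 : Fin 5) ^ e *
            X (3 : Fin 5) ^ ((lL p q m c i).toNat - l) * X (4 : Fin 5) ^ l)) ∈
        Ideal.span {X (0 : Fin 5) ^ (q - p) - X 1 * X 4 + X 2 * X 3} := by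
  obtain ⟨j, rfl⟩ : ∃ j, i = j + 1 := ⟨i - 1, by omega⟩
  obtain ⟨hn0, -, -, hl0, he0, -, -, -⟩ := S.index j hir
  have hEL : (q : ℤ) * (lL p q m c (j + 1)).toNat - (p : ℤ) * (eE p q m c (j + 1)).toNat = nN p q m c (j + 1) := by
    rw [Int.toNat_of_nonneg hl0, Int.toNat_of_nonneg he0]; simp only [nN]; ring
  have hm' : (m : ℤ) ∣ ((eE p q m c (j + 1)).toNat : ℤ) - (lL p q m c (j + 1)).toNat := by
    rw [Int.toNat_of_nonneg hl0, Int.toNat_of_nonneg he0, eE_eq]; exact ⟨hjP c (j + 1), by ring⟩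
  have hN : ((nN p q m c (j + 1)).toNat : ℤ) = nN p q m c (j + 1) := Int.toNat_of_nonneg hn0
  have hdich := S.dich (j + 1) hi hir
  generalize (nN p q m c (j + 1)).toNat = N at *
  generalize (eE p q m c (j + 1)).toNat = E at *
  generalize (lL p q m c (j + 1)).toNat = L at *
  refine homog_induction (P := fun g => ∃ (a₀ : MvPolynomial (Fin 5) k) (a : ℕ → ℕ → MvPolynomial (Fin 5) k),
      a₀ ∈ W0 p q m ∧ (∀ e l : ℕ, a e l ∈ W0 p q m) ∧
      g - (a₀ * X 0 ^ N + ∑ e ∈ Finset.range (E + 1), ∑ l ∈ Finset.range (L + 1),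
        a e l * (X 1 ^ (E - e) * X 2 ^ e * X 3 ^ (L - l) * X 4 ^ l)) ∈ Ideal.span _) hf
    ⟨0, 0, zero_mem _, fun e l => zero_mem _, by simp⟩ ?_ ?_
  · rintro g g' ⟨a, b, ha, hb, h⟩ ⟨a', b', ha', hb', h'⟩
    refine ⟨a + a', b + b', add_mem ha ha', fun e l => add_mem (hb e l) (hb' e l), ?_⟩
    convert add_mem h h' using 1
    simp only [Pi.add_apply, add_mul, Finset.sum_add_distrib]
    ring
  · intro d x hd
    have hd' : Finsupp.weight (wt5 p q m) d = (nN p q m c (j + 1), ((-0 : ℤ) : ZMod m)) := by rw [hd]; simp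
    obtain ⟨h1, h2⟩ := (weight5_eq_iff p q m d _ _).1 hd'
    rw [sub_zero] at h2
    rcases hdich (d 0) (d 1 + d 2) (d 3 + d 4) (by push_cast; linarith) (by push_cast; exact h2) with h0 | ⟨ha, hb⟩
    · refine ⟨_, 0, hom5_zero p q m (d 0 - N) (d 1) (d 2) (d 3) (d 4) x (by push_cast [Nat.cast_sub h0]; linarith) h2,
        fun e l => zero_mem _, ?_⟩
      convert zero_mem (Ideal.span ({X (0 : Fin 5) ^ (q - p) - X 1 * X 4 + X 2 * X 3} : Set (MvPolynomial (Fin 5) k))) using 1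
      rw [monomial5]
      simp only [Pi.zero_apply, zero_mul, Finset.sum_const_zero, add_zero, sub_eq_zero]
      obtain ⟨z, hz⟩ := Nat.exists_eq_add_of_le h0
      rw [hz, Nat.add_sub_cancel_left, pow_add]
      ring
    · obtain ⟨e2, e1, he2, he1, rfl⟩ : ∃ e2 e1, e2 ≤ d 2 ∧ e1 ≤ d 1 ∧ E = e1 + e2 :=
        ⟨min (d 2) E, E - min (d 2) E, min_le_left _ _, by omega, by omega⟩
      obtain ⟨l4, l3, hl4, hl3, rfl⟩ : ∃ l4 l3, l4 ≤ d 4 ∧ l3 ≤ d 3 ∧ L = l3 + l4 :=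
        ⟨min (d 4) L, L - min (d 4) L, min_le_left _ _, by omega, by omega⟩
      let A : MvPolynomial (Fin 5) k :=
        C x * (X 0 ^ d 0 * X 1 ^ (d 1 - e1) * X 2 ^ (d 2 - e2) * X 3 ^ (d 3 - l3) * X 4 ^ (d 4 - l4))
      have hA : A ∈ W0 (k := k) p q m := hom5_zero p q m _ _ _ _ _ x
        (by push_cast [Nat.cast_sub he1, Nat.cast_sub he2, Nat.cast_sub hl3, Nat.cast_sub hl4] at hEL ⊢; linarith)
        (by
          have h3 := dvd_sub h2 hm'
          push_cast [Nat.cast_sub he1, Nat.cast_sub he2, Nat.cast_sub hl3, Nat.cast_sub hl4] at h3 ⊢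
          obtain ⟨u, hu⟩ := h3
          exact ⟨u, by linarith⟩)
      refine ⟨0, fun e l => if e = e2 ∧ l = l4 then A else 0, zero_mem _, fun e l => ?_, ?_⟩
      · dsimp only
        split_ifs
        · exact hA
        · exact zero_mem _
      convert zero_mem (Ideal.span ({X (0 : Fin 5) ^ (q - p) - X 1 * X 4 + X 2 * X 3} : Set (MvPolynomial (Fin 5) k))) using 1
      rw [monomial5, zero_mul, zero_add, sub_eq_zero, Finset.sum_eq_single e2 (fun e _ he => Finset.sum_eq_zero fun l _ => by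
          simp [he]) (fun h => absurd (Finset.mem_range.2 (by omega)) h),
        Finset.sum_eq_single l4 (fun l _ hl => by simp [hl])
          (fun h => absurd (Finset.mem_range.2 (by omega)) h)]
      dsimp only
      rw [if_pos ⟨rfl, rfl⟩, Nat.add_sub_cancel, Nat.add_sub_cancel]
      obtain ⟨z1, hz1⟩ := Nat.exists_eq_add_of_le he1
      obtain ⟨z2, hz2⟩ := Nat.exists_eq_add_of_le he2
      obtain ⟨z3, hz3⟩ := Nat.exists_eq_add_of_le hl3
      obtain ⟨z4, hz4⟩ := Nat.exists_eq_add_of_le hl4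
      simp only [A, hz1, hz2, hz3, hz4, Nat.add_sub_cancel_left]
      ring

theorem mem_idealK (a b c' : ℕ) (hne : a + b + c' ≠ 0) (hn : (a : ℤ) - (p : ℤ) * b + (q : ℤ) * c' = 0)
    (hd : (m : ℤ) ∣ ((b : ℤ) - c')) :
    X 0 ^ a * X 1 ^ b * X 2 ^ c' ∈ idealK k p q m := by
  refine Ideal.subset_span ⟨mk3 a b c', fun h => hne ?_, (weight3_zero_iff p q m _).2 ⟨by simpa using hn, by simpa using hd⟩, ?_⟩
  · have h0 := DFunLike.congr_fun h 0
    have h1 := DFunLike.congr_fun h 1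
    have h2 := DFunLike.congr_fun h 2
    simp at h0 h1 h2
    omega
  · rw [monomial_mk3, map_one, one_mul]

/-- One step: a monomial divisible by `X₁^E X₂^L` is rewritten with a lower one. -/
theorem rel_step {I : Ideal (MvPolynomial (Fin 3) k)} {s : k} {E L n' : ℕ}
    (hrel : X 1 ^ E * X 2 ^ L - C s * X 0 ^ n' ∈ I) (a z1 z2 : ℕ) :
    Ideal.Quotient.mk I (X 0 ^ a * X 1 ^ (E + z1) * X 2 ^ (L + z2)) =
      Ideal.Quotient.mk I (C s) * Ideal.Quotient.mk I (X 0 ^ (a + n') * X 1 ^ z1 * X 2 ^ z2) := by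
  rw [← map_mul, Ideal.Quotient.eq]
  have e : X 0 ^ a * X 1 ^ (E + z1) * X 2 ^ (L + z2) - C s * (X 0 ^ (a + n') * X 1 ^ z1 * X 2 ^ z2) =
      (X 0 ^ a * X 1 ^ z1 * X 2 ^ z2 : MvPolynomial (Fin 3) k) * (X 1 ^ E * X 2 ^ L - C s * X 0 ^ n') := by
    ring
  rw [e]
  exact Ideal.mul_mem_left _ _ hrel

/-- Case `d₀ ≥ e₀`: divisible by a non-trivial monomial of weight zero. -/
theorem mem_of_ge {I : Ideal (MvPolynomial (Fin 3) k)} (hK : idealK k p q m ≤ I) (d0 d1 d2 e0 e1 e2 N : ℕ)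
    (hm : 0 < m) (hN : 0 < N) (hpq : p < q)
    (hn : (d0 : ℤ) - (p : ℤ) * d1 + (q : ℤ) * d2 = (e0 : ℤ) - (p : ℤ) * e1 + (q : ℤ) * e2)
    (hc : ((d1 : ℤ) - d2) - ((e1 : ℤ) - e2) = (m : ℤ) * N) (h0 : e0 ≤ d0)
    (hlt : (d0 : ℤ) < (q : ℤ) - p + e0) :
    X 0 ^ d0 * X 1 ^ d1 * X 2 ^ d2 ∈ I := by
  have hD : (0 : ℤ) < (q : ℤ) - p := by omega
  have hN0 : 0 ≤ (p : ℤ) * m * N := by positivity
  have hmN : (0 : ℤ) < (m : ℤ) * N := by positivity
  have hδ : (p : ℤ) * m * N - ((q : ℤ) - p) * ((d2 : ℤ) - e2) = (d0 : ℤ) - e0 := by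
    linear_combination -hn - (p : ℤ) * hc
  have h2 : (0 : ℤ) < (d2 : ℤ) - e2 + 1 := pos_of_mul_pos_right (a := (q : ℤ) - p)
    (by rw [mul_add, mul_one]; linarith) hD.le
  obtain ⟨z2, rfl⟩ := Nat.exists_eq_add_of_le (show e2 ≤ d2 by omega)
  obtain ⟨z1, rfl⟩ := Nat.exists_eq_add_of_le (show e1 ≤ d1 by omega)
  obtain ⟨z0, rfl⟩ := Nat.exists_eq_add_of_le h0
  push_cast at hn hc
  have e : X (0 : Fin 3) ^ (e0 + z0) * X 1 ^ (e1 + z1) * X 2 ^ (e2 + z2) =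
      (X 0 ^ e0 * X 1 ^ e1 * X 2 ^ e2 : MvPolynomial (Fin 3) k) * (X 0 ^ z0 * X 1 ^ z1 * X 2 ^ z2) := by ring
  rw [e]
  exact Ideal.mul_mem_left _ _ (hK (mem_idealK z0 z1 z2 (by omega) (by linarith) ⟨N, by linarith⟩))

/-- Monomials of equal weight are proportional modulo an ideal with the three kinds of relations. -/
theorem main_rel {I : Ideal (MvPolynomial (Fin 3) k)} {s : k} {E L n' np P : ℕ} (hm : 0 < m) (hpq : p < q)
    (hnp : (np : ℤ) ≤ (q : ℤ) - p) (hn'np : n' < np) (hP : 0 < P) (hE : E = L + m * P)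
    (hl : ((q : ℤ) - p) * L = (n' : ℤ) + (p : ℤ) * m * P)
    (hgap : ∀ x z : ℤ, 0 < x → x < (P : ℤ) →
      ¬ (-(np : ℤ) < (p : ℤ) * m * x - ((q : ℤ) - p) * z ∧ (p : ℤ) * m * x - ((q : ℤ) - p) * z < 0))
    (hbig : X 0 ^ np ∈ I) (hK : idealK k p q m ≤ I) (hrel : X 1 ^ E * X 2 ^ L - C s * X 0 ^ n' ∈ I) :
    ∀ (N : ℕ) (d0 d1 d2 e0 e1 e2 : ℕ),
      (d0 : ℤ) - (p : ℤ) * d1 + (q : ℤ) * d2 = (e0 : ℤ) - (p : ℤ) * e1 + (q : ℤ) * e2 →
      ((d1 : ℤ) - d2) - ((e1 : ℤ) - e2) = (m : ℤ) * N →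
      Ideal.Quotient.mk I (X 0 ^ d0 * X 1 ^ d1 * X 2 ^ d2) = 0 ∨
      Ideal.Quotient.mk I (X 0 ^ e0 * X 1 ^ e1 * X 2 ^ e2) = 0 ∨
        ∃ r : k, Ideal.Quotient.mk I (X 0 ^ d0 * X 1 ^ d1 * X 2 ^ d2) =
          Ideal.Quotient.mk I (C r) * Ideal.Quotient.mk I (X 0 ^ e0 * X 1 ^ e1 * X 2 ^ e2) := by
  have hD : (0 : ℤ) < (q : ℤ) - p := by omega
  have hbig' : ∀ a b c' : ℕ, np ≤ a → Ideal.Quotient.mk I (X 0 ^ a * X 1 ^ b * X 2 ^ c') = 0 := by
    intro a b c' ha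
    obtain ⟨z, rfl⟩ := Nat.exists_eq_add_of_le ha
    rw [Ideal.Quotient.eq_zero_iff_mem, pow_add]
    exact Ideal.mul_mem_right _ _ (Ideal.mul_mem_right _ _ (Ideal.mul_mem_right _ _ hbig))
  intro N
  induction N using Nat.strong_induction_on with
  | _ N ih =>
  intro d0 d1 d2 e0 e1 e2 hn hc
  rcases le_or_gt np d0 with h | hd0
  · exact Or.inl (hbig' _ _ _ h)
  rcases le_or_gt np e0 with h | he0'
  · exact Or.inr (Or.inl (hbig' _ _ _ h))
  have hδ : (p : ℤ) * m * N - ((q : ℤ) - p) * ((d2 : ℤ) - e2) = (d0 : ℤ) - e0 := by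
    linear_combination -hn - (p : ℤ) * hc
  rcases Nat.eq_zero_or_pos N with rfl | hNpos
  · push_cast at hδ hc
    have h2 : (d2 : ℤ) - e2 = 0 := by
      by_contra hne
      rcases lt_or_gt_of_ne hne with h | h
      · have := mul_le_mul_of_nonneg_left (show (d2 : ℤ) - e2 ≤ -1 by omega) hD.le
        linarith
      · have := mul_le_mul_of_nonneg_left (show (1 : ℤ) ≤ (d2 : ℤ) - e2 by omega) hD.le
        linarith
    rw [h2] at hδ
    simp at hδ
    obtain rfl : d0 = e0 := by omega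
    obtain rfl : d2 = e2 := by omega
    obtain rfl : d1 = e1 := by simp at hc; omega
    exact Or.inr (Or.inr ⟨1, by rw [map_one, map_one, one_mul]⟩)
  rcases le_or_gt e0 d0 with h0 | h0
  · exact Or.inl (Ideal.Quotient.eq_zero_iff_mem.2
      (mem_of_ge hK d0 d1 d2 e0 e1 e2 N hm hNpos hpq hn hc h0 (by omega)))
  rcases lt_or_ge N P with hNP | hNP
  · exact absurd ⟨by rw [hδ]; omega, by rw [hδ]; omega⟩ (hgap N ((d2 : ℤ) - e2) (by omega) (by omega))
  have h1 : (p : ℤ) * m * P ≤ (p : ℤ) * m * N := mul_le_mul_of_nonneg_left (by omega) (by positivity)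
  have h2 : (L : ℤ) < (d2 : ℤ) - e2 + 1 := lt_of_mul_lt_mul_left (a := (q : ℤ) - p)
    (by rw [hl, mul_add, mul_one]; linarith) hD.le
  have h3 : (m : ℤ) * P ≤ (m : ℤ) * N := mul_le_mul_of_nonneg_left (by omega) (Int.natCast_nonneg m)
  have hE' : (E : ℤ) = L + (m : ℤ) * P := by exact_mod_cast hE
  obtain ⟨z2, rfl⟩ := Nat.exists_eq_add_of_le (show L ≤ d2 by omega)
  obtain ⟨z1, rfl⟩ := Nat.exists_eq_add_of_le (show E ≤ d1 by omega)
  push_cast at hn hc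
  have hrec := ih (N - P) (by omega) (d0 + n') z1 z2 e0 e1 e2
    (by push_cast; linear_combination hn - hl + (p : ℤ) * hE')
    (by push_cast [Nat.cast_sub hNP]; linear_combination hc - hE')
  rcases hrec with h | h | ⟨r, hr⟩
  · exact Or.inl (by rw [rel_step hrel, h, mul_zero])
  · exact Or.inr (Or.inl h)
  · exact Or.inr (Or.inr ⟨s * r, by rw [rel_step hrel, hr, ← mul_assoc, ← map_mul, ← C_mul]⟩)

theorem Setup.rank_idealL (S : Setup p q m c) (i : ℕ) (hi : 1 ≤ i) (hir : i ≤ c.length) (s : k) (ν : ℤ × ZMod m) :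
    Module.rank k (piece k (wt3 p q m) (idealL k p q m c i s) ν) ≤ 1 := by
  obtain ⟨j, rfl⟩ : ∃ j, i = j + 1 := ⟨i - 1, by omega⟩
  obtain ⟨hn0, hlt, hle, hl0, he0, hP, hl, hgap⟩ := S.index j hir
  have hEq : eE p q m c (j + 1) = lL p q m c (j + 1) + (m : ℤ) * hjP c (j + 1) := eE_eq _
  have hrel : X 1 ^ (eE p q m c (j + 1)).toNat * X 2 ^ (lL p q m c (j + 1)).toNat -
      C s * X (0 : Fin 3) ^ (nN p q m c (j + 1)).toNat ∈ idealL k p q m c (j + 1) s := by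
    have h0 : C s * X (0 : Fin 3) ^ (nN p q m c (j + 1)).toNat -
        X 1 ^ (eE p q m c (j + 1)).toNat * X 2 ^ (lL p q m c (j + 1)).toNat ∈ idealL k p q m c (j + 1) s :=
      Ideal.mem_sup_left (Ideal.subset_span (Set.mem_insert_of_mem _ (Set.mem_singleton _)))
    have h1 := neg_mem h0
    rwa [neg_sub] at h1
  have hbig : X (0 : Fin 3) ^ (nN p q m c j).toNat ∈ idealL k p q m c (j + 1) s :=
    Ideal.mem_sup_left (Ideal.subset_span (Set.mem_insert _ _))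
  have hK : idealK k p q m ≤ idealL k p q m c (j + 1) s := le_sup_right
  have key := main_rel (p := p) (q := q) (m := m) (np := (nN p q m c j).toNat) (P := (hjP c (j + 1)).toNat) S.hm S.hpq
    (by rw [Int.toNat_of_nonneg (hn0.trans hlt.le)]; exact hle) (by omega) (by omega)
    (by zify; rw [Int.toNat_of_nonneg hP.le, Int.toNat_of_nonneg hl0, Int.toNat_of_nonneg he0]; exact hEq)
    (by rw [Int.toNat_of_nonneg hl0, Int.toNat_of_nonneg hn0, Int.toNat_of_nonneg hP.le]; exact hl)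
    (by rw [Int.toNat_of_nonneg hP.le, Int.toNat_of_nonneg (hn0.trans hlt.le)]; exact hgap) hbig hK hrel
  refine rank_piece_le_one _ _ _ fun d e hd he => ?_
  obtain ⟨hn, z, hz⟩ := weight3_congr p q m (hd.trans he.symm)
  rw [mono3, mono3]
  obtain ⟨t, rfl | rfl⟩ := z.eq_nat_or_neg
  · rcases key t _ _ _ _ _ _ hn hz with h | h | ⟨r, hr⟩
    · exact Or.inl (Ideal.Quotient.eq_zero_iff_mem.1 h)
    · exact Or.inr (Or.inl (Ideal.Quotient.eq_zero_iff_mem.1 h))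
    · exact Or.inr (Or.inr ⟨r, Ideal.Quotient.eq.1 (hr.trans (map_mul _ _ _).symm)⟩)
  · rcases key t _ _ _ _ _ _ hn.symm (by linear_combination -hz) with h | h | ⟨r, hr⟩
    · exact Or.inr (Or.inl (Ideal.Quotient.eq_zero_iff_mem.1 h))
    · exact Or.inl (Ideal.Quotient.eq_zero_iff_mem.1 h)
    · by_cases hr0 : r = 0
      · rw [hr0, map_zero C, map_zero (Ideal.Quotient.mk _), zero_mul] at hr
        exact Or.inr (Or.inl (Ideal.Quotient.eq_zero_iff_mem.1 hr))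
      · refine Or.inr (Or.inr ⟨r⁻¹, Ideal.Quotient.eq.1 ?_⟩)
        rw [map_mul _ (C r⁻¹), hr, ← mul_assoc, ← map_mul, ← C_mul, inv_mul_cancel₀ hr0, map_one C, map_one (Ideal.Quotient.mk _), one_mul]

end Groth.Agent.SmallAlg.HJDigits
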