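import Mathlib

/-!
# Fitting decomposition of semilinear endomorphisms
-/

set_option autoImplicit false

universe u v

open Module Submodule

namespace Groth.Agent.SmallAlg.SigmaLin

variable {k : Type u} [Field k] {σ : k →+* k} {V : Type v} [AddCommGroup V] [Module k V]

theorem iterate_zero_apply (T : V →ₛₗ[σ] V) : ∀ n : ℕ, (⇑T)^[n] 0 = 0
  | 0 => rfl
  | n + 1 => by rw [Function.iterate_succ_apply, map_zero, iterate_zero_apply T n]

theorem iterate_add (T : V →ₛₗ[σ] V) (n : ℕ) (a b : V) : (⇑T)^[n] (a + b) = (⇑T)^[n] a + (⇑T)^[n] b :=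
  Function.Semiconj₂.iterate (f := ⇑T) (op := (· + ·)) (fun x y => map_add T x y) n a b

/-- Span of the image of the `n`-th iterate. -/
def S (T : V →ₛₗ[σ] V) (n : ℕ) : Submodule k V := span k (Set.range ((⇑T)^[n]))

theorem S_antitone (T : V →ₛₗ[σ] V) : Antitone (S T) := by
  refine antitone_nat_of_succ_le fun n => span_mono ?_
  rintro _ ⟨x, rfl⟩
  exact ⟨T x, by rw [Function.iterate_succ_apply]⟩

theorem mapsTo_S (T : V →ₛₗ[σ] V) (n : ℕ) : ∀ x ∈ S T n, T x ∈ S T (n + 1) := by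
  intro x hx
  induction hx using span_induction with
  | mem x hx => obtain ⟨y, rfl⟩ := hx; exact subset_span ⟨y, by rw [Function.iterate_succ_apply']⟩
  | zero => rw [map_zero]; exact Submodule.zero_mem _
  | add x y _ _ hx hy => rw [map_add]; exact Submodule.add_mem _ hx hy
  | smul a x _ hx => rw [map_smulₛₗ]; exact Submodule.smul_mem _ _ hx

variable [FiniteDimensional k V]

theorem exists_stable (T : V →ₛₗ[σ] V) : ∃ N, ∀ n, N ≤ n → S T n = S T N := by
  obtain ⟨N, hN⟩ := IsArtinian.monotone_stabilizes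
    (R := k) (M := V) ⟨fun n => OrderDual.toDual (S T n), fun a b h => OrderDual.toDual_le_toDual.2 (S_antitone T h)⟩
  exact ⟨N, fun n hn => (OrderDual.toDual.injective (hN n hn)).symm⟩

/-- On the stable image the semilinear map has no kernel. -/
theorem eq_zero_of_apply {T : V →ₛₗ[σ] V} {N : ℕ} (hN : ∀ n, N ≤ n → S T n = S T N) {x : V}
    (hx : x ∈ S T N) (hT : T x = 0) : x = 0 := by
  let b := finBasis k (S T N)
  have hspan : S T N ≤ span k (Set.range fun i => T (b i : V)) := by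
    refine (hN (N + 1) (by omega)).ge.trans (span_le.2 ?_)
    rintro _ ⟨y, rfl⟩
    rw [Function.iterate_succ_apply']
    have hy : (⇑T)^[N] y ∈ S T N := subset_span ⟨y, rfl⟩
    have := congrArg Subtype.val (b.sum_repr ⟨_, hy⟩)
    simp only [AddSubmonoidClass.coe_finsetSum, Submodule.coe_smul] at this
    rw [SetLike.mem_coe, ← this, map_sum]
    exact sum_mem fun i _ => by rw [map_smulₛₗ]; exact smul_mem _ _ (subset_span ⟨i, rfl⟩)
  have hli : LinearIndependent k fun i => T (b i : V) := by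
    rw [linearIndependent_iff_card_le_finrank_span]
    have := Submodule.finrank_mono hspan
    simpa [Set.finrank] using this
  have hx' := congrArg Subtype.val (b.sum_repr ⟨x, hx⟩)
  simp only [AddSubmonoidClass.coe_finsetSum, Submodule.coe_smul] at hx'
  rw [← hx', map_sum] at hT
  simp only [map_smulₛₗ] at hT
  have h0 := Fintype.linearIndependent_iff.1 hli _ hT
  rw [← hx']
  exact Finset.sum_eq_zero fun i _ => by rw [(map_eq_zero σ).1 (h0 i), zero_smul]

theorem eq_zero_of_nil (T : V →ₛₗ[σ] V) (v : V) (hnil : ∃ n : ℕ, (⇑T)^[n] v = 0)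
    (hss : ∀ n : ℕ, v ∈ S T n) : v = 0 := by
  obtain ⟨N, hN⟩ := exists_stable T
  obtain ⟨n, hn⟩ := hnil
  have key : ∀ (n : ℕ) (x : V), x ∈ S T N → (⇑T)^[n] x = 0 → x = 0 := by
    intro n
    induction n with
    | zero => exact fun x _ h => h
    | succ n ih =>
      intro x hx h
      rw [Function.iterate_succ_apply] at h
      exact eq_zero_of_apply hN hx (ih _ ((hN (N + 1) (by omega)).le (mapsTo_S T N x hx)) h)
  exact key n v (hss N) hn

theorem mem_range_iterate_of_mem_S [RingHomSurjective σ] (T : V →ₛₗ[σ] V) : ∀ (n : ℕ) (x : V), x ∈ S T n →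
    ∃ y, (⇑T)^[n] y = x
  | 0, x, _ => ⟨x, rfl⟩
  | n + 1, x, hx => by
    induction hx using span_induction with
    | mem x hx => exact hx
    | zero => exact ⟨0, iterate_zero_apply T _⟩
    | add a b _ _ ha hb =>
      obtain ⟨a, rfl⟩ := ha; obtain ⟨b, rfl⟩ := hb
      exact ⟨a + b, iterate_add T _ a b⟩
    | smul c a _ ha =>
      obtain ⟨y, rfl⟩ := ha
      rw [Function.iterate_succ_apply']
      obtain ⟨c', rfl⟩ := RingHomSurjective.is_surjective (σ := σ) c
      obtain ⟨z, hz⟩ := mem_range_iterate_of_mem_S T n (c' • (⇑T)^[n] y) (Submodule.smul_mem _ _ (subset_span ⟨y, rfl⟩))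
      exact ⟨z, by rw [Function.iterate_succ_apply', hz, map_smulₛₗ]⟩

theorem fitting [RingHomSurjective σ] (T : V →ₛₗ[σ] V) :
    (∃ W : Submodule k V, (W : Set V) = {v : V | ∃ n : ℕ, (⇑T)^[n] v = 0} ∧ (∃ N : ℕ, ∀ v ∈ W, (⇑T)^[N] v = 0) ∧
      IsCompl W (⨅ n : ℕ, S T n)) ∧
    Set.BijOn (⇑T) (⋂ n : ℕ, (S T n : Set V)) (⋂ n : ℕ, (S T n : Set V)) := by
  obtain ⟨N, hN⟩ := exists_stable T
  have hmem : ∀ x, x ∈ (⋂ n : ℕ, (S T n : Set V)) ↔ x ∈ S T N := by
    intro x
    refine ⟨fun h => Set.mem_iInter.1 h N, fun h => Set.mem_iInter.2 fun n => ?_⟩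
    rcases le_total n N with hn | hn
    · exact S_antitone T hn h
    · exact (hN n hn).ge h
  have hinf : (⨅ n : ℕ, S T n) = S T N := le_antisymm (iInf_le _ N) fun x hx => (mem_iInf _).2
    (Set.mem_iInter.1 ((hmem x).2 hx))
  let W : Submodule k V :=
    { carrier := {v : V | ∃ n : ℕ, (⇑T)^[n] v = 0}
      zero_mem' := ⟨0, rfl⟩
      add_mem' := by
        rintro a b ⟨m, hm⟩ ⟨n, hn⟩
        refine ⟨m + n, ?_⟩
        rw [iterate_add]
        rw [Nat.add_comm, Function.iterate_add_apply, hm, iterate_zero_apply, Nat.add_comm,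
          Function.iterate_add_apply, hn, iterate_zero_apply, add_zero]
      smul_mem' := by
        rintro c a ⟨m, hm⟩
        refine ⟨m, ?_⟩
        revert c a
        induction m with
        | zero => intro c a h; simp only [Function.iterate_zero, id_eq] at h ⊢; rw [h, smul_zero]
        | succ m ih =>
          intro c a h
          rw [Function.iterate_succ_apply] at h ⊢
          rw [map_smulₛₗ]
          exact ih _ h }
  have hW : Disjoint W (S T N) := by
    rw [Submodule.disjoint_def]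
    intro x hx hxS
    exact eq_zero_of_nil T x hx (Set.mem_iInter.1 ((hmem x).2 hxS))
  have hsur : ∀ n, ∀ x ∈ S T N, ∃ y ∈ S T N, (⇑T)^[n] y = x := by
    intro n x hx
    obtain ⟨y, rfl⟩ := mem_range_iterate_of_mem_S T (n + N) x ((hN _ (by omega)).ge hx)
    exact ⟨(⇑T)^[N] y, subset_span ⟨y, rfl⟩, (Function.iterate_add_apply _ _ _ _).symm⟩
  have hsub : ∀ n : ℕ, ∀ a b : V, (⇑T)^[n] (a - b) = (⇑T)^[n] a - (⇑T)^[n] b := fun n a b => by
    rw [eq_sub_iff_add_eq, ← iterate_add, sub_add_cancel]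
  refine ⟨⟨W, rfl, ⟨N, ?_⟩, hinf ▸ ⟨hW, codisjoint_iff.2 (eq_top_iff'.2 fun v => ?_)⟩⟩, ?_, ?_, ?_⟩
  · rintro v ⟨n, hn⟩
    refine eq_zero_of_nil T _ ⟨n, ?_⟩ (Set.mem_iInter.1 ((hmem _).2 (subset_span ⟨v, rfl⟩)))
    rw [← Function.iterate_add_apply, Nat.add_comm, Function.iterate_add_apply, hn, iterate_zero_apply]
  · obtain ⟨s, hs, hs'⟩ := hsur N _ (subset_span ⟨v, rfl⟩ : (⇑T)^[N] v ∈ S T N)
    exact Submodule.mem_sup.2 ⟨v - s, ⟨N, by rw [hsub, hs', sub_self]⟩, s, hs, sub_add_cancel v s⟩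
  · intro x hx
    exact (hmem _).2 ((hN (N + 1) (by omega)).le (mapsTo_S T N x ((hmem x).1 hx)))
  · intro a ha b hb hab
    exact sub_eq_zero.1 (eq_zero_of_apply hN (sub_mem ((hmem a).1 ha) ((hmem b).1 hb))
      (by rw [map_sub, hab, sub_self]))
  · intro x hx
    obtain ⟨y, hy, hy'⟩ := hsur 1 x ((hmem x).1 hx)
    exact ⟨y, (hmem y).2 hy, hy'⟩

omit [FiniteDimensional k V] in
theorem base_change {d : ℕ} (e e' : Basis (Fin d) k V) (T : V →ₛₗ[σ] V)
    (P A A' : Matrix (Fin d) (Fin d) k) (hP : ∀ j, e' j = ∑ i, P i j • e i) (hA : ∀ j, T (e j) = ∑ i, A i j • e i)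
    (hA' : ∀ j, T (e' j) = ∑ i, A' i j • e' i) : P * A' = A * P.map ⇑σ := by
  refine Matrix.ext fun i j => ?_
  have hrepr : ∀ (c : Fin d → k), e.repr (∑ l, c l • e l) i = c i := fun c => congrFun (e.repr_sum_self c) i
  have h1 : T (e' j) = ∑ l, (P * A') l j • e l := by
    rw [hA']
    simp only [hP, Finset.smul_sum, smul_smul, Matrix.mul_apply, Finset.sum_smul]
    rw [Finset.sum_comm]
    simp only [mul_comm]
  have h2 : T (e' j) = ∑ l, (A * P.map ⇑σ) l j • e l := by
    simp only [hP, map_sum, map_smulₛₗ, hA, Finset.smul_sum, smul_smul, Matrix.mul_apply, Matrix.map_apply,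
      Finset.sum_smul]
    rw [Finset.sum_comm]
    simp only [mul_comm]
  rw [← hrepr (fun l => (P * A') l j), ← h1, h2, hrepr]

end Groth.Agent.SmallAlg.SigmaLin
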